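import Cfsg.Agent.Lib.Classical.QutritU.CaseB

/-!
# Over the field with four elements all unitary blocks normalise
-/

set_option autoImplicit false
set_option linter.unusedSectionVars false
set_option linter.unusedSimpArgs false
set_option linter.style.haveILetI false

namespace CfsgLib.Classical.QutritU

open Matrix CfsgLib.Classical.QutritMax

variable {K : Type*} [Field K] {σ : K →+* K} {ω : K}

/-- The reflection of a block. -/
def flip3 (K : Type*) [Field K] : M3' K := of fun x y => if x = -y then 1 else 0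

theorem nor3_flip (h : Root ω) : Nor3 ω (flip3 K) := by
  refine nor3_of_gen h ⟨0, -1, 0, ?_⟩ ⟨0, 0, -1, ?_⟩ <;> ext x y <;>
    rw [mul_r2_apply, r2_mul_apply] <;>
    rcases zmod3_cases x with rfl | rfl | rfl <;> rcases zmod3_cases y with rfl | rfl | rfl <;>
    simp +decide [flip3, wp_zero] <;> congr 1

theorem diag_table : ∀ e : ZMod 3 → ZMod 3, ∃ k j : ZMod 3, ∀ y, e (y + 1) = k + j * y + e y := by
  decide +kernel

theorem nor3_diag_wp (h : Root ω) (e : ZMod 3 → ZMod 3) : Nor3 ω (diagonal fun x => wp ω (e x) : M3' K) := by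
  refine nor3_of_gen h ?_ ⟨0, 0, 1, ?_⟩
  · obtain ⟨k, j, hkj⟩ := diag_table e
    refine ⟨k, 1, j, ?_⟩
    ext x y
    rw [mul_r2_apply, r2_mul_apply, diagonal_apply, diagonal_apply, zero_mul, zero_add, wp_zero, mul_one]
    by_cases e1 : x = y + 1
    · subst e1
      rw [if_pos rfl, if_pos (add_sub_cancel_right y 1), add_sub_cancel_right, ← wp_add h, hkj]
    · rw [if_neg e1, if_neg (fun e2 => e1 (by rw [← e2]; ring)), mul_zero]
  · rw [r2_diag, diagonal_mul_diagonal, diagonal_mul_diagonal]
    congr 1; funext x; ring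

namespace Amb

variable {p : ℕ} {H : Subgroup (M9 K)ˣ} (hH : Amb σ ω p H) [Finite K]
include hH

theorem eq_wp_of_ne (h2 : p = 2) {x : K} (hx : x ≠ 0) : ∃ k, x = wp ω k := by
  classical
  letI := Fintype.ofFinite K
  have h := FiniteField.pow_card_sub_one_eq_one x hx
  rw [← Nat.card_eq_fintype_card, hH.card, h2, show (2 : ℕ) ^ 2 - 1 = 3 from rfl] at h
  rcases eq_smul_r2.cube_cases' hH.root h with e | e | e
  exacts [⟨0, by rw [e, wp_zero]⟩, ⟨1, by rw [e, wp_one]⟩, ⟨2, by rw [e, wp_two]⟩]

theorem norm_of_ne (h2 : p = 2) {x : K} (hx : x ≠ 0) : σ x * x = 1 := by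
  obtain ⟨k, rfl⟩ := hH.eq_wp_of_ne h2 hx; exact hH.wp_norm k

theorem two_eq (h2 : p = 2) : (2 : K) = 0 := by
  haveI := hH.char
  have h := CharP.cast_eq_zero K p
  rw [h2] at h
  exact_mod_cast h

/-- Over the field with four elements all unitary blocks normalise. -/
theorem nor3_of_two (h2 : p = 2) {B : M3' K} (hu : U3 σ B) : Nor3 ω B := by
  have hω := hH.root
  have col : ∀ {C : M3' K}, U3 σ C → ∀ x y, σ (C 0 x) * C 0 y + σ (C 1 x) * C 1 y + σ (C 2 x) * C 2 y =
      if x = y then 1 else 0 := fun {C} hC x y => by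
    have := congrFun (congrFun hC x) y
    simpa [adj3, Matrix.mul_apply, sum3, Matrix.one_apply] using this
  -- a fixed first line
  have line : ∀ {C : M3' K}, U3 σ C → C 1 0 = 0 → C 2 0 = 0 → Nor3 ω C := by
    intro C hC h10 h20
    have h00 : C 0 0 ≠ 0 := fun e => by simpa [e, h10, h20] using col hC 0 0
    have h01 : C 0 1 = 0 := by simpa +decide [h10, h20, h00] using col hC 0 1
    have h02 : C 0 2 = 0 := by simpa +decide [h10, h20, h00] using col hC 0 2
    have two : ∀ y, C 0 y = 0 → y ≠ 0 → (C 1 y = 0 ∧ C 2 y ≠ 0) ∨ (C 1 y ≠ 0 ∧ C 2 y = 0) := by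
      intro y hy hy0
      have e := col hC y y
      rw [if_pos rfl, hy] at e
      by_cases a : C 1 y = 0 <;> by_cases b : C 2 y = 0
      · simp [a, b] at e
      · exact .inl ⟨a, b⟩
      · exact .inr ⟨a, b⟩
      · rw [map_zero, zero_mul, hH.norm_of_ne h2 a, hH.norm_of_ne h2 b, zero_add] at e
        exact absurd (show (1 : K) = 0 by linear_combination hH.two_eq h2 - e) one_ne_zero
    obtain ⟨e0, he0⟩ := hH.eq_wp_of_ne h2 h00
    rcases two 1 h01 (by decide) with ⟨a1, b1⟩ | ⟨a1, b1⟩
    · have a2 : C 2 2 = 0 := by simpa +decide [h01, a1, b1, map_eq_zero] using col hC 1 2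
      rcases two 2 h02 (by decide) with ⟨-, b2⟩ | ⟨c2, -⟩
      · exact absurd a2 b2
      obtain ⟨e1, he1⟩ := hH.eq_wp_of_ne h2 b1
      obtain ⟨e2, he2⟩ := hH.eq_wp_of_ne h2 c2
      have hC' : C = flip3 K * diagonal fun x => wp ω (if x = 0 then e0 else if x = 1 then e1 else e2) := by
        ext x y
        rw [Matrix.mul_diagonal]
        rcases zmod3_cases x with rfl | rfl | rfl <;> rcases zmod3_cases y with rfl | rfl | rfl <;>
          simp +decide [flip3, h10, h20, h01, h02, a1, a2, he0, he1, he2]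
      rw [hC']; exact Nor3.mul hω (nor3_flip hω) (nor3_diag_wp hω _)
    · have c2 : C 1 2 = 0 := by simpa +decide [h01, a1, b1, map_eq_zero] using col hC 1 2
      rcases two 2 h02 (by decide) with ⟨-, b2⟩ | ⟨b2, -⟩
      swap; · exact absurd c2 b2
      obtain ⟨e1, he1⟩ := hH.eq_wp_of_ne h2 a1
      obtain ⟨e2, he2⟩ := hH.eq_wp_of_ne h2 b2
      have hC' : C = diagonal fun x => wp ω (if x = 0 then e0 else if x = 1 then e1 else e2) := by
        ext x y
        rcases zmod3_cases x with rfl | rfl | rfl <;> rcases zmod3_cases y with rfl | rfl | rfl <;>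
          simp +decide [h10, h20, h01, h02, b1, c2, he0, he1, he2]
      rw [hC']; exact nor3_diag_wp hω _
  -- move the first column
  have move : ∀ {M : M3' K} {c : K}, U3 σ M → Nor3 ω M → (∀ x, B x 0 = c * M x 0) → Nor3 ω B := by
    intro M c hM hMn hc
    have h := line ((hH.u3_adj hM).mul hu) ?_ ?_
    · have := Nor3.mul hω hMn h
      rwa [← mul_assoc, mul_eq_one_comm.1 hM, one_mul] at this
    all_goals
      rw [Matrix.mul_apply, sum3, hc, hc, hc]
      simp only [adj3, transpose_apply, map_apply]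
    · have := col hM 1 0
      rw [if_neg (by decide)] at this
      linear_combination c * this
    · have := col hM 2 0
      rw [if_neg (by decide)] at this
      linear_combination c * this
  have e00 := col hu 0 0
  rw [if_pos rfl] at e00
  by_cases a0 : B 0 0 = 0
  · by_cases a1 : B 1 0 = 0
    · exact move (hH.u3_r2 0 2 0) (nor3_r2 hω 2 0) (c := B 2 0) fun x => by
        rcases zmod3_cases x with rfl | rfl | rfl <;> simp +decide [r2_apply, wp_zero, a0, a1]
    · by_cases a2 : B 2 0 = 0
      · exact move (hH.u3_r2 0 1 0) (nor3_r2 hω 1 0) (c := B 1 0) fun x => by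
          rcases zmod3_cases x with rfl | rfl | rfl <;> simp +decide [r2_apply, wp_zero, a0, a2]
      · rw [a0, mul_zero, zero_add, hH.norm_of_ne h2 a1, hH.norm_of_ne h2 a2] at e00
        exact absurd (show (1 : K) = 0 by linear_combination hH.two_eq h2 - e00) one_ne_zero
  by_cases a1 : B 1 0 = 0
  · by_cases a2 : B 2 0 = 0
    · exact line hu a1 a2
    · rw [a1, mul_zero, add_zero, hH.norm_of_ne h2 a0, hH.norm_of_ne h2 a2] at e00
      exact absurd (show (1 : K) = 0 by linear_combination hH.two_eq h2 - e00) one_ne_zero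
  by_cases a2 : B 2 0 = 0
  · rw [a2, mul_zero, add_zero, hH.norm_of_ne h2 a1, hH.norm_of_ne h2 a0] at e00
    exact absurd (show (1 : K) = 0 by linear_combination hH.two_eq h2 - e00) one_ne_zero
  obtain ⟨e0, he0⟩ := hH.eq_wp_of_ne h2 a0
  obtain ⟨e1, he1⟩ := hH.eq_wp_of_ne h2 a1
  obtain ⟨e2, he2⟩ := hH.eq_wp_of_ne h2 a2
  have hd : U3 σ (diagonal fun x => wp ω (if x = 0 then e0 else if x = 1 then e1 else e2) : M3' K) := by
    rw [U3, adj3, Matrix.diagonal_map (map_zero σ), diagonal_transpose, diagonal_mul_diagonal, ← diagonal_one]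
    congr 1
    funext x
    exact hH.wp_norm _
  refine move (M := diagonal (fun x => wp ω (if x = 0 then e0 else if x = 1 then e1 else e2)) * F3 ω)
    (hd.mul hH.u3_F3) (Nor3.mul hω (nor3_diag_wp hω _) (nor3_F3 hω)) (c := ω - ω * ω) fun x => ?_
  rw [Matrix.diagonal_mul]
  have hs := s_ne hω
  rcases zmod3_cases x with rfl | rfl | rfl <;>
    simp +decide [F3, wp_zero, he0, he1, he2] <;> rw [mul_left_comm, mul_inv_cancel₀ hs, mul_one]

end Amb

end CfsgLib.Classical.QutritU
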