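import Cfsg.Agent.Lib.Classical.QutritU.FlipSpace
import Cfsg.Agent.Lib.Classical.QutritU.TwoCols

/-!
# A member outside the normaliser at the central generator gives all monomial members
-/

set_option autoImplicit false
set_option linter.unusedSectionVars false
set_option linter.unusedSimpArgs false

namespace CfsgLib.Classical.QutritU

open Matrix CfsgLib.Classical.QutritMax

variable {K : Type*} [Field K] {σ : K →+* K} {ω : K}

namespace Amb

variable {p : ℕ} {H : Subgroup (M9 K)ˣ} (hH : Amb σ ω p H) [Finite K]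
include hH

theorem exists_sum (hB : ∀ g ∈ cX ω H, ∀ a, Nor3 ω (rowM ((g : (M9 K)ˣ) : M9 K) a)) (hn : ¬SM ω H) :
    In H (pm colCyc : M9 K) ∧ ∀ j, In H (bd0 (r2 ω 0 0 j : M3' K)) := by
  by_cases hS : ∀ (k : ZMod 3 → ZMod 3) (v : ZMod 3 → Pt),
      In H (bd fun a => r2 ω (k a) (v a).1 (v a).2) → v 0 + v 1 + v 2 = 0
  · exact absurd (fun g hg hc => hH.nor_of_sums hB hS ⟨hg, hc⟩) hn
  push Not at hS
  obtain ⟨k, v, hM, hne⟩ := hS
  exact ⟨hH.pm_colCyc (hH.bd0_all hM hne 1 0), fun j => hH.bd0_all hM hne 0 j⟩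

/-- If some member at the central generator does not normalise, all monomial members are present. -/
theorem monomial_of_not_sm (hn : ¬SM ω H) (g : (M9 K)ˣ) (hu : U9 σ (g : M9 K)) (hd : (g : M9 K).det = 1)
    (hπ : ∃ π : Equiv.Perm Pt, ∀ i j, i ≠ π j → (g : M9 K) i j = 0) : g ∈ H := by
  by_cases h2 : p = 2
  · obtain ⟨hc, hj⟩ := hH.exists_sum (fun k hk a => hH.nor3_of_two h2 (by
      have := hH.u9_of hk.1
      rw [bd_rowM hH.root hk.2, u9_bd] at this
      exact this a)) hn
    refine hH.monomial_all ⟨fun _ => 1, ?_⟩ (fun t ht => ?_) g hu hd hπ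
    · rw [diagonal_one, one_mul, swap_eq, ← pm_mul]
      refine In.mul ?_ (hH.pm_flip_zero hc)
      have := hH.in_signed (linEquiv_add 1 0 0 2 (by decide))
      rcases Int.units_eq_one_or (Equiv.Perm.sign (linEquiv 1 0 0 2 (by decide))) with e | e <;>
        rw [e] at this
      · simpa using this
      · simpa [show (-1 : K) = 1 by linear_combination -hH.two_eq h2] using this
    · obtain ⟨k, rfl⟩ := hH.eq_wp_of_ne h2 (fun e : t = 0 => by simp [e] at ht)
      have hinv : (wp ω k)⁻¹ = wp ω (2 * k) := by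
        refine inv_eq_of_mul_eq_one_left ?_
        rw [← wp_add hH.root, show 2 * k + k = (3 : ZMod 3) * k by ring, show (3 : ZMod 3) = 0 by decide,
          zero_mul, wp_zero]
      convert hj k using 1
      ext ⟨a, b⟩ ⟨x, y⟩
      rw [diagonal_apply, bd0, bd_apply, pairFun, r2_diag, hinv]
      simp only [Prod.mk.injEq]
      rcases zmod3_cases a with rfl | rfl | rfl <;> rcases zmod3_cases b with rfl | rfl | rfl <;>
        rcases zmod3_cases x with rfl | rfl | rfl <;> rcases zmod3_cases y with rfl | rfl | rfl <;>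
        simp +decide [wp_zero, mul_comm k, Matrix.one_apply]
  · by_cases hB : ∀ k ∈ cX ω H, ∀ a, Nor3 ω (rowM ((k : (M9 K)ˣ) : M9 K) a)
    · obtain ⟨k, hk, a, ha⟩ := hH.row_of_flip h2 (hH.pm_flip_two (hH.exists_sum hB hn).1)
      exact absurd (hB k hk a) ha
    · push Not at hB
      obtain ⟨k, hk, a, ha⟩ := hB
      exact hH.monomial_of_row h2 hk ha g hu hd hπ

end Amb

end CfsgLib.Classical.QutritU
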