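import Cfsg.Agent.Lib.Classical.QutritU.Conj

/-!
# Pairs on one line generate the monomial members
-/

set_option autoImplicit false
set_option linter.unusedSectionVars false
set_option linter.unusedSimpArgs false

namespace CfsgLib.Classical.QutritU

open Matrix CfsgLib.Classical.QutritMax

variable {K : Type*} [Field K] {σ : K →+* K} {ω : K}

/-- A matrix conjugate to a member by a member is a member. -/
theorem in_conj {H : Subgroup (M9 K)ˣ} {M A B : M9 K} (hM : In H M) (hA : In H A) (e : M * A = B * M) :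
    In H B := by
  obtain ⟨m, hm, rfl⟩ := hM
  obtain ⟨a, ha, rfl⟩ := hA
  refine ⟨m * a * m⁻¹, mul_mem (mul_mem hm ha) (inv_mem hm), ?_⟩
  rw [Units.val_mul, Units.val_mul, e, mul_assoc, Units.mul_inv, mul_one]

theorem line_table : ∀ z : Pt, z ≠ 0 → ∃ a b c d : ZMod 3, a * d - b * c ≠ 0 ∧ linFun a b c d (0, 1) = z := by
  decide +kernel

/-- The diagonal with two opposite entries. -/
def pairFun (x y : Pt) (t t' : K) : Pt → K := fun v => if v = x then t else if v = y then t' else 1

theorem prod_pairFun {x y : Pt} (hxy : x ≠ y) (t t' : K) : ∏ v, pairFun x y t t' v = t * t' := by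
  classical
  rw [Fintype.prod_eq_mul x y hxy fun v hv => by simp [pairFun, hv.1, hv.2]]
  simp [pairFun, Ne.symm hxy]

namespace Amb

variable {p : ℕ} {H : Subgroup (M9 K)ˣ} (hH : Amb σ ω p H)
include hH

theorem det_in {M : M9 K} (hM : In H M) : M.det = 1 := by
  obtain ⟨g, hg, rfl⟩ := hM; exact hH.det_eq g hg

/-- Members moving one pair of points of a line to any pair of points. -/
theorem exists_move {x y : Pt} (hxy : x ≠ y) : ∃ π : Equiv.Perm Pt, ∃ s : K, s ≠ 0 ∧
    In H (s • (pm π : M9 K)) ∧ π (0, 1) = x ∧ π (0, 2) = y := by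
  obtain ⟨a, b, c, d, hdet, e⟩ := line_table (y - x) (sub_ne_zero.2 (Ne.symm hxy))
  have hadd := linEquiv_add a b c d hdet
  refine ⟨Equiv.addRight (x + x - y) * linEquiv a b c d hdet,
    ((Equiv.Perm.sign (linEquiv a b c d hdet) : ℤ) : K), ?_, ?_, ?_, ?_⟩
  · rcases Int.units_eq_one_or (Equiv.Perm.sign (linEquiv a b c d hdet)) with e' | e' <;> simp [e']
  · have := (hH.in_sh (x + x - y)).mul (hH.in_signed hadd)
    rwa [Matrix.mul_smul, sh, pm_mul] at this
  · simp only [Equiv.Perm.mul_apply, Equiv.coe_addRight]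
    rw [show linEquiv a b c d hdet (0, 1) = y - x from e]
    abel
  · simp only [Equiv.Perm.mul_apply, Equiv.coe_addRight]
    rw [show ((0, 2) : Pt) = (0, 1) + (0, 1) by decide, hadd,
      show linEquiv a b c d hdet (0, 1) = y - x from e]
    abel

theorem move_diag {π : Equiv.Perm Pt} {s : K} (hM : In H (s • (pm π : M9 K))) {α : Pt → K}
    (h : In H (diagonal α)) : In H (diagonal (α ∘ π.symm)) :=
  in_conj hM h (by rw [Matrix.smul_mul, pm_mul_diagonal, Matrix.mul_smul])

theorem move_mono {π : Equiv.Perm Pt} {s : K} (hM : In H (s • (pm π : M9 K))) {α : Pt → K} {ρ : Equiv.Perm Pt}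
    (h : In H (diagonal α * pm ρ)) : In H (diagonal (α ∘ π.symm) * pm (π * ρ * π⁻¹)) :=
  in_conj hM h (by
    rw [Matrix.smul_mul, ← mul_assoc, pm_mul_diagonal, mul_assoc, pm_mul, Matrix.mul_smul, mul_assoc, pm_mul,
      inv_mul_cancel_right])

theorem pair_all {t t' : K} (h : In H (diagonal (pairFun ((0, 1) : Pt) (0, 2) t t'))) {x y : Pt} (hxy : x ≠ y) :
    In H (diagonal (pairFun x y t t')) := by
  obtain ⟨π, s, -, hM, h1, h2⟩ := hH.exists_move hxy
  have := hH.move_diag hM h
  rwa [show pairFun ((0, 1) : Pt) (0, 2) t t' ∘ π.symm = pairFun x y t t' from ?_] at this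
  funext v
  simp only [Function.comp_apply, pairFun, Equiv.symm_apply_eq, h1, h2]

theorem swap_all (h : ∃ α, In H (diagonal α * pm (Equiv.swap ((0, 1) : Pt) (0, 2)))) {x y : Pt} (hxy : x ≠ y) :
    ∃ α, In H (diagonal α * pm (Equiv.swap x y)) := by
  obtain ⟨α, hα⟩ := h
  obtain ⟨π, s, -, hM, h1, h2⟩ := hH.exists_move hxy
  refine ⟨α ∘ π.symm, ?_⟩
  have := hH.move_mono hM hα
  rwa [← Equiv.swap_apply_apply, h1, h2] at this

theorem perm_all (h : ∀ {x y : Pt}, x ≠ y → ∃ α, In H (diagonal α * pm (Equiv.swap x y))) (π : Equiv.Perm Pt) :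
    ∃ α, In H (diagonal α * pm π) := by
  induction π using Equiv.Perm.swap_induction_on with
  | one => exact ⟨fun _ => 1, by rw [diagonal_one, pm_one, one_mul]; exact in_one H⟩
  | swap_mul f x y hxy ih =>
    obtain ⟨α, hα⟩ := ih
    obtain ⟨β, hβ⟩ := h hxy
    refine ⟨β * (α ∘ (Equiv.swap x y).symm), ?_⟩
    have := hβ.mul hα
    rwa [mul_assoc, ← mul_assoc (pm _), pm_mul_diagonal, mul_assoc (diagonal _), pm_mul, ← mul_assoc,
      diagonal_mul_diagonal] at this

theorem diag_all (h : ∀ {x y : Pt}, x ≠ y → ∀ t, σ t * t = 1 → In H (diagonal (pairFun x y t t⁻¹))) {α : Pt → K}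
    (hu : ∀ v, σ (α v) * α v = 1) (hp : ∏ v, α v = 1) : In H (diagonal α) := by
  classical
  have hne : ∀ v, α v ≠ 0 := fun v e => by simpa [e] using hu v
  let z : Pt := 0
  have key : ∀ S : Finset Pt, z ∉ S →
      In H (diagonal fun v => if v = z then (∏ x ∈ S, α x)⁻¹ else if v ∈ S then α v else 1) := by
    intro S
    induction S using Finset.induction_on with
    | empty =>
      intro _
      convert in_one H using 1
      rw [← diagonal_one]
      congr 1; funext v; simp
    | @insert a S ha ih =>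
      intro hz
      have hza : z ≠ a := fun e => hz (by simp [← e])
      have := (h (Ne.symm hza) (α a) (hu a)).mul (ih fun e => hz (Finset.mem_insert_of_mem e))
      rw [diagonal_mul_diagonal] at this
      convert this using 2
      funext v
      rw [Finset.prod_insert ha]
      by_cases hvz : v = z
      · subst hvz; simp [pairFun, hza, mul_comm]
      · by_cases hva : v = a
        · subst hva; simp [pairFun, hvz, ha]
        · simp [pairFun, hvz, hva]
  have := key (Finset.univ.erase z) (Finset.notMem_erase z _)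
  convert this using 2
  funext v
  by_cases hvz : v = z
  · subst hvz
    rw [if_pos rfl]
    refine eq_inv_of_mul_eq_one_left ?_
    rw [Finset.mul_prod_erase _ α (Finset.mem_univ z), hp]
  · simp [hvz]

/-- All monomial members. -/
theorem monomial_all
    (hs : ∃ α, In H (diagonal α * pm (Equiv.swap ((0, 1) : Pt) (0, 2))))
    (hd : ∀ t : K, σ t * t = 1 → In H (diagonal (pairFun ((0, 1) : Pt) (0, 2) t t⁻¹)))
    (g : (M9 K)ˣ) (hu : U9 σ (g : M9 K)) (hdet : (g : M9 K).det = 1)
    (hπ : ∃ π : Equiv.Perm Pt, ∀ i j, i ≠ π j → (g : M9 K) i j = 0) : g ∈ H := by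
  classical
  obtain ⟨π, hπ⟩ := hπ
  obtain ⟨α, hα⟩ := hH.perm_all (fun hxy => hH.swap_all hs hxy) π
  obtain ⟨γ, hγ⟩ : ∃ γ : Pt → K, γ = fun v => (g : M9 K) v (π.symm v) := ⟨_, rfl⟩
  have hg : (g : M9 K) = diagonal γ * pm π := by
    ext i j
    rw [mul_pm_apply, diagonal_apply]
    by_cases e : i = π j
    · rw [if_pos e, hγ, e]; simp
    · rw [if_neg e, hπ i j e]
  have hαu := hH.u9_in hα
  have cancel : ∀ {δ : Pt → K}, U9 σ (diagonal δ * pm π : M9 K) → ∀ v, σ (δ v) * δ v = 1 := by
    intro δ hδ v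
    have h1 : U9 σ ((diagonal δ * pm π) * pm π⁻¹ : M9 K) := hδ.mul (u9_pm _)
    rw [mul_assoc, pm_mul, mul_inv_cancel, pm_one, mul_one] at h1
    have := congrFun (congrFun h1 v) v
    simpa [adj9] using this
  have hγu := cancel (hg ▸ hu)
  have hαv := cancel hαu
  have hdα := hH.det_in hα
  have hdγ : (diagonal γ * pm π : M9 K).det = 1 := hg ▸ hdet
  rw [det_mul, det_diagonal] at hdα hdγ
  have hα0 : ∀ v, α v ≠ 0 := fun v e => by simpa [e] using hαv v
  have hq : In H (diagonal (γ / α)) := by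
    refine hH.diag_all (fun hxy t ht => hH.pair_all (hd t ht) hxy) (fun v => ?_) ?_
    · rw [Pi.div_apply, map_div₀, div_mul_div_comm, hγu, hαv, div_one]
    · simp only [Pi.div_apply]
      rw [Finset.prod_div_distrib, div_eq_one_iff_eq (Finset.prod_ne_zero_iff.2 fun v _ => hα0 v)]
      exact mul_right_cancel₀ (fun e => by rw [e, mul_zero] at hdα; exact zero_ne_one hdα) (hdγ.trans hdα.symm)
  obtain ⟨k, hk, ek⟩ := hq.mul hα
  have : g = k := Units.ext (by
    rw [ek, hg, ← mul_assoc, diagonal_mul_diagonal]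
    congr 2
    funext v
    rw [Pi.div_apply, div_mul_cancel₀ _ (hα0 v)])
  rw [this]; exact hk

end Amb

end CfsgLib.Classical.QutritU
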