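import Cfsg.Agent.Lib.Classical.QutritU.Frob
import Cfsg.Agent.Lib.Classical.QutritU.Monomial
import Cfsg.Agent.Lib.Classical.AschPrime.UnitaryGroup

/-!
# A block outside the normaliser fills its unitary group
-/

set_option autoImplicit false
set_option linter.unusedSectionVars false
set_option linter.unusedSimpArgs false
set_option linter.style.haveILetI false

namespace CfsgLib.Classical.QutritU

open Matrix CfsgLib.Classical CfsgLib.Classical.QutritMax CfsgLib.Classical.GeoThree.C6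
open scoped commutatorElement MatrixGroups

variable {K : Type*} [Field K] {σ : K →+* K} {ω : K}

/-- The members commuting with the central generator. -/
def cX (ω : K) (H : Subgroup (M9 K)ˣ) : Subgroup (M9 K)ˣ where
  carrier := {g | g ∈ H ∧ Commute (g : M9 K) (x0 ω)}
  one_mem' := ⟨one_mem H, by rw [Units.val_one]; exact Commute.one_left _⟩
  mul_mem' := fun {g k} hg hk => ⟨mul_mem hg.1 hk.1, by rw [Units.val_mul]; exact hg.2.mul_left hk.2⟩
  inv_mem' := fun {g} hg => ⟨inv_mem hg.1, hg.2.units_inv_left⟩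

theorem rowM_one (a : ZMod 3) : rowM (1 : M9 K) a = 1 := by
  ext b d; simp [rowM, Matrix.one_apply]

theorem rowM_mul (h : Root ω) {g k : M9 K} (hg : g * x0 ω = x0 ω * g) (hk : k * x0 ω = x0 ω * k) (a : ZMod 3) :
    rowM (g * k) a = rowM g a * rowM k a := by
  conv_lhs => rw [bd_rowM h hg, bd_rowM h hk, bd_mul]
  rw [rowM_bd]

theorem rowM_dg (f : Pt → ZMod 3) (a : ZMod 3) : rowM (dg ω f) a = diagonal fun b => wp ω (f (a, b)) := by
  rw [dg_eq_bd, rowM_bd]

theorem dg_x0 (f : Pt → ZMod 3) : dg ω f * x0 ω = x0 ω * dg ω f := by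
  rw [dg_eq_bd, bd_x0]

/-- The block at a value of the first coordinate, on the members commuting with the central generator. -/
def rowHom (h : Root ω) (H : Subgroup (M9 K)ˣ) (a : ZMod 3) : cX ω H →* M3' K where
  toFun g := rowM ((g : (M9 K)ˣ) : M9 K) a
  map_one' := by simp [rowM_one]
  map_mul' g k := by
    simp only [Subgroup.coe_mul, Units.val_mul]
    exact rowM_mul h g.2.2 k.2.2 a

/-- The block as an invertible matrix. -/
def rowU (h : Root ω) (H : Subgroup (M9 K)ˣ) (a : ZMod 3) : cX ω H →* GL (Fin 3) K :=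
  (rowHom h H a).toHomUnits

theorem rowU_val (h : Root ω) (H : Subgroup (M9 K)ˣ) (a : ZMod 3) (g : cX ω H) :
    (Units.val (rowU h H a g) : M3' K) = rowM ((g : (M9 K)ˣ) : M9 K) a := rfl

theorem fG_eq (W : Omega K) : (Units.val W.fG : M3' K) = F3 W.ω := by
  refine Matrix.ext fun (i : ZMod 3) (j : ZMod 3) => ?_
  rcases zmod3_cases i with rfl | rfl | rfl <;> rcases zmod3_cases j with rfl | rfl | rfl <;>
    simp [Omega.fG, Omega.s, F3, wp_zero, wp_one, wp_two, pow_two, show (2 : ZMod 3) * 2 = 1 by decide] <;> rfl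

theorem tauG_eq (W : Omega K) :
    (Units.val (tauG W) : M3' K) = diagonal fun b => wp W.ω (1 - b * b) := by
  refine Matrix.ext fun (i : ZMod 3) (j : ZMod 3) => ?_
  rcases zmod3_cases i with rfl | rfl | rfl <;> rcases zmod3_cases j with rfl | rfl | rfl <;>
    simp [tauG, wp_zero, wp_one, show (2 : ZMod 3) * 2 = 1 by decide] <;> rfl

namespace Amb

variable {p : ℕ} {H : Subgroup (M9 K)ˣ} (hH : Amb σ ω p H) [Finite K]
include hH

theorem mem_range_row {M : M9 K} (hM : In H M) (hx : M * x0 ω = x0 ω * M) {a : ZMod 3} {G : GL (Fin 3) K}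
    (e : rowM M a = (Units.val G : M3' K)) : G ∈ (rowU hH.root H a).range := by
  obtain ⟨g, hg, rfl⟩ := hM
  exact ⟨⟨g, hg, hx⟩, Units.ext e⟩

theorem row_blk {B : M3' K} (a : ZMod 3) : rowM (blk B) a = B := by rw [blk_eq_bd, rowM_bd]

theorem ov (h2 : p ≠ 2) (a : ZMod 3) : Ov σ (hH.omega h2) (rowU hH.root H a).range := by
  have hω := hH.root
  have hr : ∀ k i j, In H (blk (r2 ω k i j)) := fun k i j => hH.in_R (inR_blk hω k i j)
  refine ⟨?_, ?_, ?_, ?_, ?_⟩
  · rintro _ ⟨g, rfl⟩
    have hu := hH.u9_of g.2.1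
    rw [bd_rowM hω g.2.2, u9_bd] at hu
    exact hu a
  · exact hH.mem_range_row (hr 0 0 1) (dg10_comm _).symm ((row_blk hH a).trans (dG_r2 (hH.omega h2)).symm)
  · exact hH.mem_range_row (hr 0 1 0) (dg10_comm _).symm ((row_blk hH a).trans (pG_r2 (hH.omega h2)).symm)
  · exact hH.mem_range_row hH.in_F3 (dg10_comm _).symm ((row_blk hH a).trans (fG_eq (hH.omega h2)).symm)
  · exact hH.mem_range_row
      (hH.in_dg (f := fun w => 1 - w.2 * w.2) ⟨1, 0, 0, 0, 0, -1, funext fun w => by ring⟩)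
      (dg_x0 _) ((rowM_dg _ a).trans (tauG_eq (hH.omega h2)).symm)

theorem range_shift (a : ZMod 3) : (rowU hH.root H a).range ≤ (rowU hH.root H (a + 1)).range := by
  rintro _ ⟨⟨g, hg, hx⟩, rfl⟩
  obtain ⟨s, hs, es⟩ := hH.in_sh (1, 0)
  have e : ((s * g * s⁻¹ : (M9 K)ˣ) : M9 K) = bd fun x => rowM (g : M9 K) (x - 1) := by
    rw [Units.val_mul, Units.val_mul, es]
    conv_lhs => rw [bd_rowM hH.root hx, sh10_bd, mul_assoc, ← es, Units.mul_inv, mul_one]
  refine hH.mem_range_row ⟨_, mul_mem (mul_mem hs hg) (inv_mem hs), e⟩ (bd_x0 _) ?_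
  rw [rowM_bd, add_sub_cancel_right]
  rfl

/-- A row outside the normaliser makes every row full. -/
theorem rows_full (h2 : p ≠ 2) {g : (M9 K)ˣ} (hg : g ∈ cX ω H) {a : ZMod 3}
    (hn : ¬Nor3 ω (rowM (g : M9 K) a)) (c : ZMod 3) : IsFull σ (rowU hH.root H c).range := by
  have hfull : IsFull σ (rowU hH.root H a).range := by
    rcases full_or_normalizes (hH.par h2) (hH.ov h2 a) with h | h
    · exact h
    · exact absurd (nor3_of_normalizes (hH.omega h2) (h _ ⟨⟨g, hg⟩, rfl⟩)) hn
  intro x hu hd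
  have h1 := hH.range_shift a
  have h2' := hH.range_shift (a + 1)
  rcases zmod3_cases (c - a) with e | e | e
  · rw [show c = a by linear_combination e]; exact hfull x hu hd
  · rw [show c = a + 1 by linear_combination e]; exact h1 (hfull x hu hd)
  · rw [show c = a + 1 + 1 by linear_combination e]; exact h2' (h1 (hfull x hu hd))

theorem mem_suG_iff [Fintype K] {x : GL (Fin 3) K} :
    x ∈ AschPrime.suG 3 K p ↔ IsU σ x ∧ (x : Matrix (Fin 3) (Fin 3) K).det = 1 := by
  rw [AschPrime.mem_suG, Clifford4.mem_GU_iff_adj hH.frob]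
  exact Iff.rfl

theorem suG_struct [Fintype K] (h2 : p ≠ 2) :
    ⁅AschPrime.suG 3 K p, AschPrime.suG 3 K p⁆ = AschPrime.suG 3 K p ∧ ∀ N ≤ AschPrime.suG 3 K p,
      (∀ h ∈ AschPrime.suG 3 K p, ∀ x ∈ N, h * x * h⁻¹ ∈ N) →
        N ≤ Cfsg.Geo.scalars (Fin 3) K ∨ N = AschPrime.suG 3 K p :=
  AschPrime.suG_perfect_and_normal (by rw [← Nat.card_eq_fintype_card, hH.card]) le_rfl
    (.inl (by have := hH.five_le h2; omega))

section

variable [Fintype K] (h2 : p ≠ 2) (hF : ∀ c, IsFull σ (rowU hH.root H c).range)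
include h2 hF

theorem suG_le (c : ZMod 3) : AschPrime.suG 3 K p ≤ (rowU hH.root H c).range := fun x hx =>
  hF c x ((hH.mem_suG_iff).1 hx).1 ((hH.mem_suG_iff).1 hx).2

/-- Members trivial on one block fill another block. -/
theorem suG_le_kernel {a c : ZMod 3} (hac : a ≠ c) :
    AschPrime.suG 3 K p ≤ (rowU hH.root H a).ker.map (rowU hH.root H c) := by
  obtain ⟨N, hN⟩ : ∃ N, N = (rowU hH.root H a).ker.map (rowU hH.root H c) ⊓ AschPrime.suG 3 K p := ⟨_, rfl⟩
  rcases (hH.suG_struct h2).2 N (hN ▸ inf_le_right) (fun h hh x hx => by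
    subst hN
    obtain ⟨⟨k, hk, rfl⟩, hxS⟩ := hx
    obtain ⟨m, rfl⟩ := hH.suG_le h2 hF c hh
    refine ⟨⟨m * k * m⁻¹, Subgroup.Normal.conj_mem inferInstance k hk m, by simp⟩,
      (AschPrime.suG 3 K p).mul_mem ((AschPrime.suG 3 K p).mul_mem hh hxS) ((AschPrime.suG 3 K p).inv_mem hh)⟩) with h | h
  · exfalso
    obtain ⟨e, he⟩ : ∃ e, e = c - a := ⟨_, rfl⟩
    have hee : e * e = 1 := by
      rcases zmod3_cases e with h' | h' | h'
      · exact absurd (by linear_combination h' - he) (Ne.symm hac)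
      all_goals subst h'; decide
    obtain ⟨k, hk, ek⟩ := hH.in_dg (f := fun w => e * (w.1 - a) * w.2)
      ⟨0, 0, -e * a, 0, e, 0, funext fun w => by ring⟩
    have hx : Commute (k : M9 K) (x0 ω) := by rw [ek]; exact dg_x0 _
    have e1 : rowU hH.root H a ⟨k, hk, hx⟩ = 1 := Units.ext (by
      show rowM (k : M9 K) a = (1 : M3' K)
      rw [ek, rowM_dg]
      simp [wp_zero])
    have e2 : (rowU hH.root H c ⟨k, hk, hx⟩ : GL (Fin 3) K) = (hH.omega h2).dG := Units.ext (by
      refine (?_ : rowM (k : M9 K) c = _).trans (dG_r2 (hH.omega h2)).symm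
      rw [ek, rowM_dg, r2_diag]
      congr 1
      funext b
      show wp ω (e * (c - a) * b) = wp ω (1 * b)
      rw [← he, hee])
    have hd : (hH.omega h2).dG ∈ N := by
      subst hN
      refine ⟨⟨_, e1, e2⟩, (hH.mem_suG_iff).2 ⟨(hH.ov h2 c).isU _ (hH.ov h2 c).d, ?_⟩⟩
      simp [Omega.dG, det_fin_three, Amb.omega, ← pow_succ', hH.root.pow_three]
    obtain ⟨s, hs⟩ := (Cfsg.Geo.mem_scalars_iff _).1 (h hd)
    have h00 := congrFun (congrFun hs 0) 0
    have h11 := congrFun (congrFun hs 1) 1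
    simp [Omega.dG, Amb.omega] at h00 h11
    exact hH.root.ne_one (h11.trans h00.symm)
  · intro x hx
    rw [← h, hN] at hx
    exact hx.1

/-- Every block of determinant one alone is a member. -/
theorem in_single (c : ZMod 3) {B : M3' K} (hu : U3 σ B) (hd : B.det = 1) :
    In H (bd fun x => if x = c then B else 1) := by
  have hac : c + 1 ≠ c := by simp
  have ha'c : c + 2 ≠ c := by simp [show (2 : ZMod 3) ≠ 0 by decide]
  let G : GL (Fin 3) K := GeneralLinearGroup.mkOfDetNeZero B (hu.det_ne)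
  have hG : G ∈ AschPrime.suG 3 K p := (hH.mem_suG_iff).2 ⟨hu, hd⟩
  have hle : AschPrime.suG 3 K p ≤
      ((rowU hH.root H (c + 1)).ker ⊓ (rowU hH.root H (c + 2)).ker).map (rowU hH.root H c) := by
    rw [← (hH.suG_struct h2).1, Subgroup.commutator_le]
    intro x hx y hy
    obtain ⟨k, hk, rfl⟩ := hH.suG_le_kernel h2 hF hac hx
    obtain ⟨l, hl, rfl⟩ := hH.suG_le_kernel h2 hF ha'c hy
    refine ⟨⁅k, l⁆, ⟨?_, ?_⟩, map_commutatorElement _ _ _⟩
    · show rowU hH.root H (c + 1) ⁅k, l⁆ = 1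
      rw [map_commutatorElement, MonoidHom.mem_ker.1 hk, commutatorElement_one_left]
    · show rowU hH.root H (c + 2) ⁅k, l⁆ = 1
      rw [map_commutatorElement, MonoidHom.mem_ker.1 hl, commutatorElement_one_right]
  obtain ⟨k, ⟨h1, h2'⟩, e⟩ := hle hG
  have e0 : rowM ((k : (M9 K)ˣ) : M9 K) c = B := congrArg Units.val e
  have e1 : rowM ((k : (M9 K)ˣ) : M9 K) (c + 1) = 1 := congrArg Units.val h1
  have e2 : rowM ((k : (M9 K)ˣ) : M9 K) (c + 2) = 1 := congrArg Units.val h2'
  refine ⟨k.1, k.2.1, (bd_rowM hH.root k.2.2).trans (congrArg bd (funext fun x => ?_))⟩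
  rcases zmod3_cases (x - c) with ex | ex | ex
  · rw [show x = c by linear_combination ex, if_pos rfl, e0]
  · rw [show x = c + 1 by linear_combination ex, if_neg hac, e1]
  · rw [show x = c + 2 by linear_combination ex, if_neg ha'c, e2]

end

/-- A block outside the normaliser gives every monomial member. -/
theorem monomial_of_row (h2 : p ≠ 2) {g : (M9 K)ˣ} (hg : g ∈ cX ω H) {a : ZMod 3}
    (hn : ¬Nor3 ω (rowM (g : M9 K) a)) (k : (M9 K)ˣ) (hu : U9 σ (k : M9 K)) (hd : (k : M9 K).det = 1)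
    (hπ : ∃ π : Equiv.Perm Pt, ∀ i j, i ≠ π j → (k : M9 K) i j = 0) : k ∈ H := by
  classical
  letI := Fintype.ofFinite K
  have hF := hH.rows_full h2 hg hn
  refine hH.monomial_all ?_ (fun t ht => ?_) k hu hd hπ
  · refine ⟨fun v => if v.1 = 0 then -1 else 1, ?_⟩
    have := hH.in_single h2 hF 0 (B := of fun i j : ZMod 3 => if i = Equiv.swap 1 2 j then (-1 : K) else 0) ?_ ?_
    · convert this using 1
      ext ⟨x, y⟩ ⟨z, w⟩
      rw [bd_apply, mul_pm_apply, diagonal_apply]
      rcases zmod3_cases x with rfl | rfl | rfl <;> rcases zmod3_cases z with rfl | rfl | rfl <;>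
        rcases zmod3_cases y with rfl | rfl | rfl <;> rcases zmod3_cases w with rfl | rfl | rfl <;>
        simp +decide [Equiv.swap_apply_def, Matrix.one_apply, Prod.mk.injEq]
    · ext i j
      simp [adj3, Matrix.mul_apply, Matrix.one_apply, sum3, Equiv.swap_apply_def]
      rcases zmod3_cases i with rfl | rfl | rfl <;> rcases zmod3_cases j with rfl | rfl | rfl <;> simp +decide
    · rw [det3]; simp +decide [Equiv.swap_apply_def]
  · have ht0 : t ≠ 0 := fun e => by simp [e] at ht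
    have hi : σ t⁻¹ * t⁻¹ = 1 := by rw [map_inv₀, ← mul_inv, ht, inv_one]
    have := hH.in_single h2 hF 0
      (B := diagonal fun b : ZMod 3 => if b = 1 then t else if b = 2 then t⁻¹ else 1) ?_ ?_
    · convert this using 1
      ext ⟨x, y⟩ ⟨z, w⟩
      rw [bd_apply, diagonal_apply, pairFun]
      simp only [Prod.mk.injEq]
      rcases zmod3_cases x with rfl | rfl | rfl <;> rcases zmod3_cases z with rfl | rfl | rfl <;>
        rcases zmod3_cases y with rfl | rfl | rfl <;> rcases zmod3_cases w with rfl | rfl | rfl <;>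
        simp +decide [Matrix.one_apply, diagonal_apply]
    · ext i j
      simp [adj3, Matrix.mul_apply, Matrix.one_apply, sum3, diagonal_apply]
      rcases zmod3_cases i with rfl | rfl | rfl <;> rcases zmod3_cases j with rfl | rfl | rfl <;>
        simp +decide [ht, ← mul_inv]
    · rw [det3]; simp +decide [ht0]

end Amb

end CfsgLib.Classical.QutritU
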