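import Cfsg.Agent.Lib.Classical.QutritU.BlockFull

/-!
# Normalising blocks whose classes always add up to zero
-/

set_option autoImplicit false
set_option linter.unusedSectionVars false
set_option linter.unusedSimpArgs false

namespace CfsgLib.Classical.QutritU

open Matrix CfsgLib.Classical.QutritMax

variable {K : Type*} [Field K] {σ : K →+* K} {ω : K}

theorem in_cancel_right {H : Subgroup (M9 K)ˣ} {A B : M9 K} (hAB : In H (A * B)) (hB : In H B) : In H A := by
  obtain ⟨m, hm, e⟩ := hAB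
  obtain ⟨b, hb, rfl⟩ := hB
  exact ⟨m * b⁻¹, mul_mem hm (inv_mem hb), by rw [Units.val_mul, e, mul_assoc, Units.mul_inv, mul_one]⟩

theorem in_cancel_left {H : Subgroup (M9 K)ˣ} {A B : M9 K} (hAB : In H (A * B)) (hA : In H A) : In H B := by
  obtain ⟨m, hm, e⟩ := hAB
  obtain ⟨a, ha, rfl⟩ := hA
  exact ⟨a⁻¹ * m, mul_mem (inv_mem ha) hm, by rw [Units.val_mul, e, ← mul_assoc, Units.inv_mul, one_mul]⟩

theorem fn_table : ∀ f : ZMod 3 → ZMod 3, ∃ c₀ c₁ c₃ : ZMod 3, ∀ a, f a = c₀ + c₁ * a + c₃ * (a * a) := by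
  decide +kernel

theorem quadr_fst (f : ZMod 3 → ZMod 3) : Quadr fun w : Pt => f w.1 := by
  obtain ⟨c₀, c₁, c₃, e⟩ := fn_table f
  exact ⟨c₀, c₁, 0, c₃, 0, 0, funext fun w => by rw [e]; ring⟩

theorem diag_fst (c : ZMod 3 → K) :
    (bd fun a => c a • (1 : M3' K)) = diagonal fun v : Pt => c v.1 := by
  ext ⟨a, b⟩ ⟨x, y⟩
  rw [bd_apply, diagonal_apply]
  by_cases h1 : a = x
  · by_cases h2 : b = y <;> simp [h1, h2]
  · simp [h1]

theorem diag_snd (d : ZMod 3 → K) : (diagonal fun v : Pt => d v.2) = blk (diagonal d) := by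
  rw [blk_eq_bd]
  ext ⟨a, b⟩ ⟨x, y⟩
  rw [bd_apply, diagonal_apply]
  by_cases h1 : a = x
  · by_cases h2 : b = y <;> simp [h1, h2]
  · simp [h1]

theorem dg_fst_eq (f : ZMod 3 → ZMod 3) :
    dg ω (fun w : Pt => f w.1) = bd fun a => wp ω (f a) • (1 : M3' K) := by
  rw [diag_fst, dg]

theorem Nor3.diag_step {d : ZMod 3 → K} (hn : Nor3 ω (diagonal d)) (hd : ∀ x, d x ≠ 0) (x : ZMod 3) :
    ∃ k, d x = wp ω k * d (x - 1) := by
  obtain ⟨k, i, j, e⟩ := hn 1 0
  have e' := congrFun (congrFun e x) (x - 1)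
  rw [mul_r2_apply, r2_mul_apply, sub_add_cancel, diagonal_apply_eq, zero_mul, zero_add, wp_zero, mul_one,
    diagonal_apply] at e'
  by_cases hi : x - i = x - 1
  · rw [if_pos hi, hi] at e'
    exact ⟨_, e'⟩
  · rw [if_neg hi, mul_zero] at e'
    exact absurd e' (hd x)

/-- The class map of the Fourier matrix. -/
theorem F3_r2 (h : Root ω) (i j : ZMod 3) : ∃ k, F3 ω * r2 ω 0 i j = r2 ω k (-j) i * F3 ω := by
  have hS : F3 ω * r2 ω 0 i 0 = r2 ω 0 0 i * F3 ω := by
    rcases zmod3_cases i with rfl | rfl | rfl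
    · rw [r2_one, mul_one, one_mul]
    · exact F3_S h
    · have e : ∀ a b : ZMod 3, r2 ω 0 a b * r2 ω 0 a b = (r2 ω (b * a) (a + a) (b + b) : M3' K) := fun a b => by
        rw [r2_mul h]; simp
      have e1 := e 1 0
      have e2 := e 0 1
      simp [show (1 : ZMod 3) + 1 = 2 by decide] at e1 e2
      rw [← e1, ← e2, ← mul_assoc, F3_S h, mul_assoc, F3_S h, ← mul_assoc]
  have hD : F3 ω * r2 ω 0 0 j = r2 ω 0 (-j) 0 * F3 ω := by
    rcases zmod3_cases j with rfl | rfl | rfl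
    · rw [neg_zero, r2_one, mul_one, one_mul]
    · exact F3_D h
    · have e : ∀ a b : ZMod 3, r2 ω 0 a b * r2 ω 0 a b = (r2 ω (b * a) (a + a) (b + b) : M3' K) := fun a b => by
        rw [r2_mul h]; simp
      have e1 := e 0 1
      have e2 := e (-1) 0
      simp [show (1 : ZMod 3) + 1 = 2 by decide, show (-1 : ZMod 3) + -1 = -2 by decide] at e1 e2
      rw [← e1, ← e2, ← mul_assoc, F3_D h, mul_assoc, F3_D h, ← mul_assoc]
  refine ⟨-(i * j), ?_⟩
  rw [show r2 ω 0 i j = (r2 ω 0 i 0 : M3' K) * r2 ω 0 0 j by rw [r2_mul h]; simp, ← mul_assoc, hS, mul_assoc, hD,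
    ← mul_assoc, r2_mul h]
  congr 2 <;> ring

namespace Amb

variable {p : ℕ} {H : Subgroup (M9 K)ˣ} (hH : Amb σ ω p H)
include hH

theorem adj3_adj3 (B : M3' K) : adj3 σ (adj3 σ B) = B := by
  ext i j; simp [adj3, hH.quad.invol]

theorem u3_adj {B : M3' K} (hB : U3 σ B) : U3 σ (adj3 σ B) := by
  rw [U3, hH.adj3_adj3]; exact mul_eq_one_comm.1 hB

theorem nor3_adj {B : M3' K} (hu : U3 σ B) (hn : Nor3 ω B) : Nor3 ω (adj3 σ B) := by
  have hω := hH.root
  choose k i' j' e using hn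
  have hinj : Function.Injective fun x : ZMod 3 × ZMod 3 => (i' x.1 x.2, j' x.1 x.2) := by
    intro x y h
    simp only [Prod.mk.injEq] at h
    have h2 : r2 ω 0 x.1 x.2 = wp ω (k x.1 x.2 - k y.1 y.2) • (r2 ω 0 y.1 y.2 : M3' K) := by
      have h1 : B * r2 ω 0 x.1 x.2 = B * (wp ω (k x.1 x.2 - k y.1 y.2) • r2 ω 0 y.1 y.2) := by
        rw [e, Matrix.mul_smul, e, ← Matrix.smul_mul, h.1, h.2, r2_eq_smul hω (k y.1 y.2), smul_smul,
          ← wp_add hω, sub_add_cancel, ← r2_eq_smul hω]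
      have := congrArg (adj3 σ B * ·) h1
      simpa [← mul_assoc, show adj3 σ B * B = 1 from hu] using this
    exact Prod.ext (r2_smul_eq hω h2).1 (r2_smul_eq hω h2).2.1
  intro a b
  obtain ⟨x, hx⟩ := Finite.surjective_of_injective hinj (a, b)
  simp only [Prod.mk.injEq] at hx
  refine ⟨-k x.1 x.2, x.1, x.2, ?_⟩
  have h1 := congrArg (fun M => adj3 σ B * M * adj3 σ B) (e x.1 x.2)
  simp only [← mul_assoc, show adj3 σ B * B = 1 from hu, one_mul] at h1
  rw [mul_assoc (adj3 σ B * _) B, mul_eq_one_comm.1 hu, mul_one, hx.1, hx.2, r2_eq_smul hω (k x.1 x.2),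
    Matrix.mul_smul] at h1
  rw [r2_eq_smul hω (-k x.1 x.2), Matrix.smul_mul, h1, smul_smul, mul_comm, wp_mul_neg hω, one_smul]

variable [Finite K]

/-- The affine classes come from the normaliser. -/
theorem in_affine (i j : ZMod 3) :
    ∃ n ∈ hH.norH, ((n : (M9 K)ˣ) : M9 K) = bd fun a => r2 ω 0 (a * i) (a * j) := by
  have hdet : (1 : ZMod 3) * 1 - 0 * i ≠ 0 := by simp
  have hadd := linEquiv_add 1 0 i 1 hdet
  have hsign : ∀ (i : ZMod 3) (h : (1 : ZMod 3) * 1 - 0 * i ≠ 0),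
      Equiv.Perm.sign (linEquiv 1 0 i 1 h) = 1 := by decide +kernel
  have hs := hH.in_signed hadd
  rw [hsign i hdet, Units.val_one, Int.cast_one, one_smul] at hs
  have hq : Quadr fun w : Pt => j * (w.1 * w.2) := ⟨0, 0, 0, 0, j, 0, funext fun w => by ring⟩
  have e : (pm (linEquiv 1 0 i 1 hdet) : M9 K) * dg ω (fun w : Pt => j * (w.1 * w.2)) =
      bd fun a => r2 ω 0 (a * i) (a * j) := by
    have e1 : (pm (linEquiv 1 0 i 1 hdet) : M9 K) = bd fun a => r2 ω 0 (a * i) 0 := by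
      ext ⟨a, b⟩ ⟨x, y⟩
      rw [pm_apply, bd_apply, r2_apply]
      simp only [linEquiv, Equiv.coe_fn_mk, linFun, Prod.mk.injEq, one_mul, zero_mul, zero_add, add_zero]
      by_cases h1 : a = x
      · subst h1
        simp [wp_zero, mul_comm i a, add_comm y]
      · simp [h1]
    rw [e1, dg_eq_bd, bd_mul]
    congr 1
    funext a
    rw [show (diagonal fun b => wp ω (j * ((a, b).1 * (a, b).2))) = r2 ω 0 0 (a * j) by
      rw [r2_diag]; congr 1; funext b; congr 1; ring, r2_mul hH.root]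
    simp
  rw [← e]
  exact hH.exists_norH (hs.mul (hH.in_dg hq)) ((nor_pm hH.root hadd).mul (nor_dg hH.root hq))

theorem in_fst (f : ZMod 3 → ZMod 3) : In H (bd fun a => wp ω (f a) • (1 : M3' K)) := by
  rw [← dg_fst_eq]; exact hH.in_dg (quadr_fst f)

theorem in_swap_diag {c : ZMod 3 → K} (h : In H (bd fun a => c a • (1 : M3' K))) :
    In H (blk (diagonal c)) := by
  rw [diag_fst] at h
  have h10 : (0 : ZMod 3) * 0 - 1 * 1 ≠ 0 := by decide
  have := hH.move_diag (hH.in_signed (linEquiv_add 0 1 1 0 h10)) h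
  rwa [show ((fun v : Pt => c v.1) ∘ (linEquiv 0 1 1 0 h10).symm) = fun v : Pt => c v.2 from
    funext fun v => by simp [linEquiv, linFun, show (-1 : ZMod 3) * -1 = 1 by decide], diag_snd] at this

/-- If all blocks normalise and all classes add up to zero, members at the central generator normalise. -/
theorem nor_of_sums (hB : ∀ g ∈ cX ω H, ∀ a, Nor3 ω (rowM ((g : (M9 K)ˣ) : M9 K) a))
    (hS : ∀ (k : ZMod 3 → ZMod 3) (v : ZMod 3 → Pt),
      In H (bd fun a => r2 ω (k a) (v a).1 (v a).2) → v 0 + v 1 + v 2 = 0)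
    {g : (M9 K)ˣ} (hg : g ∈ cX ω H) : Nor ω (g : M9 K) := by
  have hω := hH.root
  obtain ⟨B, hBdef⟩ : ∃ B, B = rowM (g : M9 K) := ⟨_, rfl⟩
  have hgB : (g : M9 K) = bd B := hBdef ▸ bd_rowM hω hg.2
  have hBn : ∀ a, Nor3 ω (B a) := fun a => hBdef ▸ hB g hg a
  have hBu : ∀ a, U3 σ (B a) := by
    have := hH.u9_of hg.1
    rwa [hgB, u9_bd] at this
  have hgH : In H (bd B) := ⟨g, hg.1, hgB⟩
  choose k i' j' e using hBn
  obtain ⟨u, hu⟩ : ∃ u : ZMod 3 → Pt → Pt, u = fun a x => (i' a x.1 x.2, j' a x.1 x.2) := ⟨_, rfl⟩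
  have e' : ∀ a x, B a * r2 ω 0 x.1 x.2 = r2 ω (k a x.1 x.2) (u a x).1 (u a x).2 * B a := fun a x => by
    rw [hu]; exact e a x.1 x.2
  -- all blocks move the classes alike
  have same : ∀ x a, u a x = u 0 x := by
    intro x
    have h1 := hS _ (fun a => u a x) (in_conj hgH (hH.in_R (inR_blk hω 0 x.1 x.2)) (by
      rw [blk_eq_bd, bd_mul, bd_mul]
      exact congrArg bd (funext fun a => e' a x)))
    obtain ⟨n, hn, en⟩ := hH.in_affine x.1 x.2
    have h2 := hS (fun a => if a = 0 then 0 else if a = 1 then k 1 x.1 x.2 else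
        k 2 x.1 x.2 + k 2 x.1 x.2 + (u 2 x).2 * (u 2 x).1 - x.2 * x.1)
      (fun a => if a = 0 then 0 else if a = 1 then u 1 x else u 2 x + u 2 x)
      (in_conj hgH ⟨n, hn.1, en⟩ (by
        rw [bd_mul, bd_mul]
        refine congrArg bd (funext fun a => ?_)
        rcases zmod3_cases a with rfl | rfl | rfl
        · simp [r2_one]
        · simp only [one_mul, if_neg (show (1 : ZMod 3) ≠ 0 by decide), if_true]
          exact e' 1 x
        · simp only [if_neg (show (2 : ZMod 3) ≠ 0 by decide), if_neg (show (2 : ZMod 3) ≠ 1 by decide),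
            Prod.fst_add, Prod.snd_add]
          have h3 : (r2 ω 0 (2 * x.1) (2 * x.2) : M3' K) =
              r2 ω (-(x.2 * x.1)) 0 0 * (r2 ω 0 x.1 x.2 * r2 ω 0 x.1 x.2) := by
            rw [r2_mul hω, r2_mul hω]; congr 1 <;> ring
          rw [h3, r2_scalar, Matrix.smul_mul, one_mul, Matrix.mul_smul, ← mul_assoc, e', mul_assoc, e',
            ← mul_assoc, r2_mul hω, r2_eq_smul hω (_ - _), r2_eq_smul hω (_ + _ + _), Matrix.smul_mul,
            Matrix.smul_mul, smul_smul, ← wp_add hω]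
          congr 2
          ring))
    simp only [if_true, if_neg (show (1 : ZMod 3) ≠ 0 by decide), if_neg (show (2 : ZMod 3) ≠ 0 by decide),
      if_neg (show (2 : ZMod 3) ≠ 1 by decide), zero_add] at h2
    have key : ∀ p q r : Pt, p + q + r = 0 → q + (r + r) = 0 → q = p ∧ r = p := by decide +kernel
    intro a
    obtain ⟨k1, k2⟩ := key _ _ _ h1 h2
    rcases zmod3_cases a with rfl | rfl | rfl
    exacts [rfl, k1, k2]
  -- each block is the first one times a member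
  have shape : ∀ a, ∃ (c : K) (w : Pt), B a = c • (B 0 * r2 ω 0 w.1 w.2) := by
    intro a
    obtain ⟨c, i, j, hc⟩ := eq_smul_r2 hω (B := adj3 σ (B 0) * B a) fun i j => by
      refine ⟨wp ω (k a i j - k 0 i j), ?_⟩
      have h1 := e' a (i, j)
      have h2 := e' 0 (i, j)
      rw [same (i, j) a] at h1
      simp only at h1 h2
      have h3 : adj3 σ (B 0) * r2 ω (k 0 i j) (u 0 (i, j)).1 (u 0 (i, j)).2 =
          r2 ω 0 i j * adj3 σ (B 0) := by
        calc _ = adj3 σ (B 0) * (r2 ω (k 0 i j) (u 0 (i, j)).1 (u 0 (i, j)).2 * B 0) * adj3 σ (B 0) := by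
              rw [mul_assoc, mul_assoc (r2 ω _ _ _), mul_eq_one_comm.1 (hBu 0), mul_one]
          _ = _ := by rw [← h2, ← mul_assoc, show adj3 σ (B 0) * B 0 = 1 from hBu 0, one_mul]
      rw [mul_assoc, h1, show r2 ω (k a i j) (u 0 (i, j)).1 (u 0 (i, j)).2 =
          wp ω (k a i j - k 0 i j) • r2 ω (k 0 i j) (u 0 (i, j)).1 (u 0 (i, j)).2 by
        rw [r2_eq_smul hω (k 0 i j), smul_smul, ← wp_add hω, sub_add_cancel, ← r2_eq_smul hω],
        Matrix.smul_mul, Matrix.mul_smul, ← mul_assoc, h3, mul_assoc]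
    refine ⟨c, (i, j), ?_⟩
    rw [← Matrix.mul_smul, ← hc, ← mul_assoc, mul_eq_one_comm.1 (hBu 0), one_mul]
  obtain ⟨c1, w1, e1⟩ := shape 1
  obtain ⟨c2, w2, e2⟩ := shape 2
  obtain ⟨c, hcdef⟩ : ∃ c : ZMod 3 → K, c = fun a => if a = 0 then 1 else if a = 1 then c1 else c2 := ⟨_, rfl⟩
  obtain ⟨w, hwdef⟩ : ∃ w : ZMod 3 → Pt, w = fun a => if a = 0 then 0 else if a = 1 then w1 else w2 := ⟨_, rfl⟩
  have hBa : ∀ a, B a = c a • (B 0 * r2 ω 0 (w a).1 (w a).2) := fun a => by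
    rcases zmod3_cases a with rfl | rfl | rfl
    · simp [hcdef, hwdef, r2_one]
    · simpa [hcdef, hwdef] using e1
    · simpa +decide [hcdef, hwdef] using e2
  -- the classes of the blocks are affine
  have hw : w1 + w2 = 0 := by
    have h0u := hBu 0
    have hY : In H (blk (B 0 * F3 ω * adj3 σ (B 0))) := by
      refine hH.in_blk ((h0u.mul hH.u3_F3).mul (hH.u3_adj h0u)) ?_
        (Nor3.mul hω (Nor3.mul hω (hBdef ▸ hB g hg 0) (nor3_F3 hω)) (hH.nor3_adj h0u (hBdef ▸ hB g hg 0)))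
      have hd := congrArg Matrix.det (show adj3 σ (B 0) * B 0 = 1 from h0u)
      rw [det_mul, det_one] at hd
      rw [det_mul, det_mul, det_F3 hω, mul_one, mul_comm, hd, one_pow]
    have key : ∀ a, ∃ l, B a * F3 ω = r2 ω l (u 0 ((w a).1 + (w a).2, (w a).2 - (w a).1)).1
        (u 0 ((w a).1 + (w a).2, (w a).2 - (w a).1)).2 * (B 0 * F3 ω * adj3 σ (B 0)) * B a := by
      intro a
      rw [hBa a]
      generalize w a = v
      obtain ⟨l, hl⟩ := F3_r2 hω v.1 v.2
      obtain ⟨s, hs⟩ : ∃ s, s = -(l + (v.2 - v.1) * -v.2) := ⟨_, rfl⟩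
      have h1 : r2 ω 0 v.1 v.2 * F3 ω =
          wp ω s • (r2 ω 0 (v.1 + v.2) (v.2 - v.1) * (F3 ω * r2 ω 0 v.1 v.2)) := by
        rw [hl, ← mul_assoc, r2_mul hω, r2_eq_smul hω (0 + l + _), Matrix.smul_mul, smul_smul, ← wp_add hω, hs,
          zero_add, neg_add_cancel, wp_zero, one_smul, add_neg_cancel_right, sub_add_cancel]
      refine ⟨s + k 0 (v.1 + v.2) (v.2 - v.1), ?_⟩
      have h2 := e' 0 (v.1 + v.2, v.2 - v.1)
      simp only at h2
      rw [Matrix.smul_mul, mul_assoc (B 0), h1, Matrix.mul_smul, ← mul_assoc, h2, Matrix.mul_smul (_ * _),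
        r2_eq_smul hω (s + _), wp_add hω, mul_smul, ← r2_eq_smul hω, Matrix.smul_mul, Matrix.smul_mul,
        smul_comm (c a) (wp ω s)]
      have e5 : B 0 * F3 ω * adj3 σ (B 0) * B 0 = B 0 * F3 ω := by
        rw [mul_assoc, show adj3 σ (B 0) * B 0 = 1 from h0u, mul_one]
      rw [smul_comm (wp ω s) (c a)]
      congr 2
      simp only [← mul_assoc] at e5 ⊢
      simp only [mul_assoc] at e5 ⊢
      rw [← mul_assoc (adj3 σ (B 0)), show adj3 σ (B 0) * B 0 = 1 from h0u, one_mul]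
    choose l hl using key
    have hsum := hS l (fun a => u 0 ((w a).1 + (w a).2, (w a).2 - (w a).1)) (in_cancel_right
      (in_conj hgH hH.in_F3 (by rw [blk_eq_bd, blk_eq_bd, bd_mul, bd_mul, bd_mul]; exact congrArg bd (funext hl))) hY)
    have add0 : ∀ x y : Pt, u 0 x + u 0 y = 0 → x + y = 0 := by
      intro x y hxy
      have h1 : B 0 * (r2 ω 0 x.1 x.2 * r2 ω 0 y.1 y.2) =
          r2 ω (k 0 x.1 x.2 + k 0 y.1 y.2 + (u 0 x).2 * (u 0 y).1) 0 0 * B 0 := by
        rw [← mul_assoc, e', mul_assoc, e', ← mul_assoc, r2_mul hω]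
        rw [← Prod.fst_add, ← Prod.snd_add, hxy, Prod.fst_zero, Prod.snd_zero]
      have h2 := congrArg (adj3 σ (B 0) * ·) h1
      simp only [r2_scalar, Matrix.smul_mul, one_mul, Matrix.mul_smul, ← mul_assoc,
        show adj3 σ (B 0) * B 0 = 1 from h0u] at h2
      rw [r2_mul hω, r2_eq_smul hω (0 + 0 + _), ← r2_one (ω := ω)] at h2
      have h4 := congrArg ((wp ω (0 + 0 + x.2 * y.1))⁻¹ • ·) h2
      simp only [smul_smul, inv_mul_cancel₀ (wp_ne_zero hω _), one_smul] at h4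
      exact Prod.ext (r2_smul_eq hω h4).1 (r2_smul_eq hω h4).2.1
    have z0 : ((w 0).1 + (w 0).2, (w 0).2 - (w 0).1) = (0 : Pt) := by simp [hwdef]
    have u00 : u 0 (0 : Pt) = 0 := by
      have h1 := e' 0 0
      simp only [Prod.fst_zero, Prod.snd_zero, r2_one, mul_one] at h1
      have h2 := congrArg (· * adj3 σ (B 0)) h1
      simp only [mul_assoc, mul_eq_one_comm.1 h0u, mul_one] at h2
      rw [← r2_one (ω := ω)] at h2
      obtain ⟨-, a1, a2⟩ := r2_injective hω h2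
      exact Prod.ext a1.symm a2.symm
    rw [z0, u00, zero_add] at hsum
    have htab : ∀ x y : Pt, (x.1 + x.2, x.2 - x.1) + (y.1 + y.2, y.2 - y.1) = (0 : Pt) → x + y = 0 := by
      decide +kernel
    have := htab _ _ (add0 _ _ hsum)
    simpa +decide [hwdef] using this
  obtain ⟨n, hn, en⟩ := hH.in_affine w1.1 w1.2
  have hw2 : w2 = w1 + w1 := by
    have : ∀ x y : Pt, x + y = 0 → y = x + x := by decide +kernel
    exact this _ _ hw
  have hfac : bd B = (bd fun a => c a • B 0) * (n : M9 K) := by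
    rw [en, bd_mul]
    refine congrArg bd (funext fun a => ?_)
    rw [Matrix.smul_mul, hBa a]
    congr 2
    rcases zmod3_cases a with rfl | rfl | rfl <;> simp +decide [hwdef, hw2, two_mul]
  have hC : In H (bd fun a => c a • B 0) := in_cancel_right (hfac ▸ hgH) ⟨n, hn.1, rfl⟩
  suffices hCn : Nor ω (bd fun a => c a • B 0) by
    rw [hgB, hfac]; exact hCn.mul hn.2
  -- the scalars
  have c0 : c 0 = 1 := by simp [hcdef]
  have hCu := u9_bd.1 (hH.u9_in hC)
  have hcn : ∀ a, c a ≠ 0 := fun a e0 => (hCu a).det_ne (by rw [e0, zero_smul]; simp)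
  have hD : In H (bd fun a => (c (a + 1) / c a) • (1 : M3' K)) := by
    obtain ⟨s, hs, es⟩ := hH.in_sh (1, 0)
    refine in_cancel_left (in_conj hC ⟨s, hs, es⟩ ?_) (hH.in_sh (1, 0))
    rw [mul_assoc (sh ((1, 0) : Pt) : M9 K), bd_mul, sh10_bd]
    congr 1
    refine congrArg bd (funext fun a => ?_)
    rw [Matrix.smul_mul, one_mul, smul_smul, sub_add_cancel, div_mul_cancel₀ _ (hcn _)]
  have step : ∀ {d : ZMod 3 → K}, In H (bd fun a => d a • (1 : M3' K)) → (∀ a, d a ≠ 0) →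
      ∀ x, ∃ k, d x = wp ω k * d (x - 1) := by
    intro d hd hd0 x
    obtain ⟨m, hm, em⟩ := hH.in_swap_diag hd
    have := hB m ⟨hm, by rw [em]; exact (dg10_comm _).symm⟩ 0
    rw [em, hH.row_blk] at this
    exact this.diag_step hd0 x
  obtain ⟨m, hm⟩ := step hD (fun a => div_ne_zero (hcn _) (hcn _)) 0
  simp only [zero_add, show (0 : ZMod 3) - 1 = 2 by decide, show (2 : ZMod 3) + 1 = 0 by decide, c0, div_one] at hm
  have h12 : (c 1 * c 2) ^ 3 = 1 := by
    rw [hm, mul_assoc, one_div, inv_mul_cancel₀ (hcn 2), mul_one, wp, ← pow_mul, mul_comm, pow_mul,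
      hω.pow_three, one_pow]
  have hdet : (B 0).det ^ 3 = 1 := by
    have h := hH.det_in hC
    simp only [det_bd, det_smul, ZMod.card, Finset.prod_mul_distrib, Finset.prod_const, Finset.card_univ,
      Finset.prod_pow] at h
    have hp : ∏ a, c a = c 0 * c 1 * c 2 := by
      rw [show (Finset.univ : Finset (ZMod 3)) = {0, 1, 2} by decide, Finset.prod_insert (by decide),
        Finset.prod_insert (by decide), Finset.prod_singleton, mul_assoc]
    rw [hp, c0, one_mul, h12, one_mul] at h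
    exact h
  have hB0n : Nor3 ω (B 0) := hBdef ▸ hB g hg 0
  have hE : In H (bd fun a => c a • (1 : M3' K)) := by
    refine in_cancel_right (B := blk (B 0)) ?_ (hH.in_blk (hBu 0) hdet hB0n)
    rw [blk_eq_bd, bd_mul]
    simpa [Matrix.smul_mul] using hC
  obtain ⟨k1, hk1⟩ := step hE hcn 1
  obtain ⟨k2, hk2⟩ := step hE hcn 2
  rw [show (1 : ZMod 3) - 1 = 0 by decide, c0, mul_one] at hk1
  rw [show (2 : ZMod 3) - 1 = 1 by decide, hk1, ← wp_add hω] at hk2
  obtain ⟨f, hf⟩ : ∃ f : ZMod 3 → ZMod 3, f = fun a => if a = 0 then 0 else if a = 1 then k1 else k2 + k1 :=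
    ⟨_, rfl⟩
  have hcf : ∀ a, c a = wp ω (f a) := fun a => by
    rcases zmod3_cases a with rfl | rfl | rfl
    · simp [hf, c0, wp_zero]
    · simp +decide [hf, hk1]
    · simp +decide [hf, hk2]
  have : (bd fun a => c a • B 0) = dg ω (fun v : Pt => f v.1) * blk (B 0) := by
    rw [dg_fst_eq, blk_eq_bd, bd_mul]
    refine congrArg bd (funext fun a => ?_)
    rw [hcf, Matrix.smul_mul, one_mul]
  rw [this]
  exact (nor_dg hω (quadr_fst f)).mul (nor_blk hω hB0n)

end Amb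

end CfsgLib.Classical.QutritU
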