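import Cfsg.Agent.Lib.Classical.QutritU.Rows

/-!
# The normaliser is transitive on the non-central classes of the standard group
-/

set_option autoImplicit false
set_option linter.unusedSectionVars false
set_option linter.unusedSimpArgs false

namespace CfsgLib.Classical.QutritU

open Matrix CfsgLib.Classical.QutritMax

variable {K : Type*} [Field K] {σ : K →+* K} {ω : K}

/-- Linear maps of the coordinates. -/
def linFun (a b c d : ZMod 3) (w : Pt) : Pt := (a * w.1 + b * w.2, c * w.1 + d * w.2)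

theorem linFun_bij : ∀ a b c d : ZMod 3, a * d - b * c ≠ 0 →
    (∀ w : Pt, linFun (d * (a * d - b * c)) (-b * (a * d - b * c)) (-c * (a * d - b * c)) (a * (a * d - b * c))
        (linFun a b c d w) = w) ∧
    (∀ w : Pt, linFun a b c d
        (linFun (d * (a * d - b * c)) (-b * (a * d - b * c)) (-c * (a * d - b * c)) (a * (a * d - b * c)) w) = w) := by
  decide +kernel

/-- Invertible linear maps of the coordinates. -/
def linEquiv (a b c d : ZMod 3) (h : a * d - b * c ≠ 0) : Equiv.Perm Pt where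
  toFun := linFun a b c d
  invFun := linFun (d * (a * d - b * c)) (-b * (a * d - b * c)) (-c * (a * d - b * c)) (a * (a * d - b * c))
  left_inv := (linFun_bij a b c d h).1
  right_inv := (linFun_bij a b c d h).2

theorem linEquiv_add (a b c d : ZMod 3) (h : a * d - b * c ≠ 0) (x y : Pt) :
    linEquiv a b c d h (x + y) = linEquiv a b c d h x + linEquiv a b c d h y := by
  simp only [linEquiv, Equiv.coe_fn_mk, linFun, Prod.fst_add, Prod.snd_add, Prod.mk_add_mk]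
  congr 1 <;> ring

theorem shift_table : ∀ u v : Pt, u ≠ 0 →
    ∃ c₃ c₄ c₅ : ZMod 3, (2 * c₃ * u.1 + c₄ * u.2, c₄ * u.1 + 2 * c₅ * u.2) + v = (0 : Pt) := by
  decide +kernel

theorem point_table : ∀ u : Pt, u ≠ 0 → ∃ a b c d : ZMod 3, a * d - b * c ≠ 0 ∧ linFun a b c d u = (0, 1) := by
  decide +kernel

theorem form_table : ∀ v : Pt, v ≠ 0 → ∃ c d : ZMod 3, v.1 * d - v.2 * c ≠ 0 := by decide +kernel

namespace Amb

variable {p : ℕ} {H : Subgroup (M9 K)ˣ} (hH : Amb σ ω p H) [Finite K]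
include hH

/-- Conjugate up to a scalar within the normaliser. -/
def Cj (A B : M9 K) : Prop := ∃ n ∈ hH.norH, ∃ c : K, c ≠ 0 ∧ ((n : (M9 K)ˣ) : M9 K) * A = (c • B) * n

theorem cj_refl (A : M9 K) : hH.Cj A A := ⟨1, one_mem _, 1, one_ne_zero, by simp⟩

theorem Cj.trans {A B C : M9 K} (h1 : hH.Cj A B) (h2 : hH.Cj B C) : hH.Cj A C := by
  obtain ⟨n, hn, c, hc, e⟩ := h1
  obtain ⟨m, hm, d, hd, e'⟩ := h2
  refine ⟨m * n, mul_mem hm hn, c * d, mul_ne_zero hc hd, ?_⟩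
  rw [Units.val_mul, mul_assoc, e, ← mul_assoc, Matrix.mul_smul, e']
  simp only [Matrix.smul_mul, smul_smul, mul_assoc]

theorem cj_of {M A B : M9 K} (hM : In H M) (hN : Nor ω M) (c : K) (hc : c ≠ 0) (e : M * A = (c • B) * M) :
    hH.Cj A B := by
  obtain ⟨n, hn, rfl⟩ := hH.exists_norH hM hN
  exact ⟨n, hn, c, hc, e⟩

theorem cj_pm {π : Equiv.Perm Pt} (hπ : ∀ a b, π (a + b) = π a + π b) {A B : M9 K}
    (e : (pm π : M9 K) * A = B * pm π) : hH.Cj A B :=
  hH.cj_of (hH.in_signed hπ) ((nor_pm hH.root hπ).smul _) 1 one_ne_zero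
    (by rw [Matrix.smul_mul, e, one_smul, Matrix.mul_smul])

theorem cj_sh_dot {π : Equiv.Perm Pt} (hπ : ∀ a b, π (a + b) = π a + π b) (u : Pt) :
    hH.Cj (sh u) (sh (π u)) := hH.cj_pm hπ (pm_sh hπ u)

theorem cj_dot_swap : hH.Cj (dg ω (dot ((0, 1) : Pt))) (x0 ω) := by
  have h10 : (0 : ZMod 3) * 0 - 1 * 1 ≠ 0 := by decide
  refine hH.cj_pm (π := linEquiv 0 1 1 0 h10) (linEquiv_add _ _ _ _ _) ?_
  rw [pm_mul_dg]
  congr 2
  funext w
  simp [linEquiv, linFun, dot, show (-1 : ZMod 3) * -1 = 1 by decide]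

theorem cj_sh01 : hH.Cj (sh ((0, 1) : Pt)) (x0 ω) := by
  have e1 : (sh ((0, 1) : Pt) : M9 K) = blk (r2 ω 0 1 0) := by
    rw [← blk_r2_eq hH.root]; simp [Rm, wp_zero, dg, dot]
  have e2 : dg ω (dot ((0, 1) : Pt)) = blk (r2 ω 0 0 1) := by
    rw [← blk_r2_eq hH.root]; simp [Rm, wp_zero, sh_zero, show ((0, 0) : Pt) = 0 from rfl]
  refine Cj.trans hH ?_ hH.cj_dot_swap
  refine hH.cj_of hH.in_F3 (nor_blk hH.root (nor3_F3 hH.root)) 1 one_ne_zero ?_
  rw [one_smul, e1, e2, blk_mul, blk_mul, F3_S hH.root]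

/-- Every non-central member is conjugate to a multiple of the central generator. -/
theorem cj_x0 (k : ZMod 3) {u v : Pt} (h : ¬(u = 0 ∧ v = 0)) : hH.Cj (Rm ω k u v) (x0 ω) := by
  have hω := hH.root
  by_cases hu : u = 0
  · have hv : v ≠ 0 := fun e => h ⟨hu, e⟩
    obtain ⟨c, d, hcd⟩ := form_table v hv
    refine Cj.trans hH (B := dg ω (dot v)) ?_ (hH.cj_pm (π := linEquiv v.1 v.2 c d hcd) (linEquiv_add _ _ _ _ _) ?_)
    · refine ⟨1, one_mem _, wp ω k, wp_ne_zero hω k, ?_⟩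
      simp [Rm, hu, sh_zero]
    · rw [pm_mul_dg]
      congr 2
      funext w
      obtain ⟨z, rfl⟩ := (linEquiv v.1 v.2 c d hcd).surjective w
      rw [Function.comp_apply, Equiv.symm_apply_apply]
      simp [linEquiv, linFun, dot]
  · obtain ⟨a, b, c, d, hdet, hπu⟩ := point_table u hu
    obtain ⟨c₃, c₄, c₅, hc⟩ := shift_table u v hu
    obtain ⟨f, hf⟩ : ∃ f : Pt → ZMod 3,
        f = fun w : Pt => c₃ * (w.1 * w.1) + c₄ * (w.1 * w.2) + c₅ * (w.2 * w.2) := ⟨_, rfl⟩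
    have hq : Quadr f := ⟨0, 0, 0, c₃, c₄, c₅, by rw [hf]; funext w; ring⟩
    refine Cj.trans hH (B := sh u) ?_ (Cj.trans hH (hπu ▸ hH.cj_sh_dot (linEquiv_add a b c d hdet) u) hH.cj_sh01)
    refine hH.cj_of (hH.in_dg hq) (nor_dg hω hq) (wp ω (k + f u)) (wp_ne_zero hω _) ?_
    have key : (fun w => f (w + u) + dot v w) = fun w => f u + f w := by
      funext w
      have h1 := congrArg Prod.fst hc
      have h2 := congrArg Prod.snd hc
      simp only [Prod.fst_add, Prod.snd_add, Prod.fst_zero, Prod.snd_zero] at h1 h2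
      simp only [hf, dot, Prod.fst_add, Prod.snd_add]
      linear_combination w.1 * h1 + w.2 * h2
    rw [Rm, Matrix.mul_smul, ← mul_assoc, dg_mul_sh, mul_assoc, dg_mul hω,
      show ((fun w => f (w + u)) + dot v) = fun w => f u + f w from key, Matrix.smul_mul, wp_add hω, ← smul_smul,
      show dg ω (fun w => f u + f w) = wp ω (f u) • dg ω f from ?_, Matrix.mul_smul]
    rw [show (fun w => f u + f w) = (fun _ => f u) + f from rfl, ← dg_mul hω, dg_const, Matrix.smul_mul, one_mul]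

end Amb

/-- Members commuting with the central generator normalise. -/
def SM (ω : K) (H : Subgroup (M9 K)ˣ) : Prop :=
  ∀ g ∈ H, ((g : (M9 K)ˣ) : M9 K) * x0 ω = x0 ω * g → Nor ω (g : M9 K)

namespace SM

variable {p : ℕ} {H : Subgroup (M9 K)ˣ} [Finite K]

theorem cent (hS : SM ω H) (hH : Amb σ ω p H) {g : (M9 K)ˣ} (hg : g ∈ H) {k : ZMod 3} {u v : Pt}
    (hne : ¬(u = 0 ∧ v = 0)) (hc : (g : M9 K) * Rm ω k u v = Rm ω k u v * g) : g ∈ hH.norH := by
  obtain ⟨n, hn, c, hc0, e⟩ := hH.cj_x0 k hne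
  rw [Matrix.smul_mul] at e
  have hx : ((n * g * n⁻¹ : (M9 K)ˣ) : M9 K) * x0 ω = x0 ω * ((n * g * n⁻¹ : (M9 K)ˣ) : M9 K) := by
    have e' : ((n⁻¹ : (M9 K)ˣ) : M9 K) * x0 ω = c⁻¹ • (Rm ω k u v * ((n⁻¹ : (M9 K)ˣ) : M9 K)) := by
      have := congrArg (fun A => ((n⁻¹ : (M9 K)ˣ) : M9 K) * A * ((n⁻¹ : (M9 K)ˣ) : M9 K)) e
      simp only [Matrix.mul_smul, Matrix.smul_mul, mul_assoc, Units.mul_inv, mul_one] at this
      simp only [← mul_assoc, Units.inv_mul, one_mul] at this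
      rw [this, smul_smul, inv_mul_cancel₀ hc0, one_smul]
    calc ((n * g * n⁻¹ : (M9 K)ˣ) : M9 K) * x0 ω
        = (n : M9 K) * ((g : M9 K) * (((n⁻¹ : (M9 K)ˣ) : M9 K) * x0 ω)) := by simp only [Units.val_mul, mul_assoc]
      _ = c⁻¹ • ((n : M9 K) * ((g : M9 K) * Rm ω k u v) * ((n⁻¹ : (M9 K)ˣ) : M9 K)) := by
        rw [e']; simp only [Matrix.mul_smul, mul_assoc]
      _ = c⁻¹ • ((n : M9 K) * Rm ω k u v * ((g : M9 K) * ((n⁻¹ : (M9 K)ˣ) : M9 K))) := by
        rw [hc]; simp only [mul_assoc]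
      _ = x0 ω * ((n * g * n⁻¹ : (M9 K)ˣ) : M9 K) := by
        rw [e]
        simp only [Units.val_mul, Matrix.smul_mul, smul_smul, inv_mul_cancel₀ hc0, one_smul, mul_assoc]
  have h1 : n * g * n⁻¹ ∈ hH.norH :=
    ⟨mul_mem (mul_mem hn.1 hg) (inv_mem hn.1), hS _ (mul_mem (mul_mem hn.1 hg) (inv_mem hn.1)) hx⟩
  have := mul_mem (mul_mem (inv_mem hn) h1) hn
  rwa [show n⁻¹ * (n * g * n⁻¹) * n = g by group] at this

end SM

end CfsgLib.Classical.QutritU
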