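import Cfsg.Agent.Lib.Classical.QutritU.Three.Root
import Cfsg.Agent.Lib.Classical.QutritMax.Elems

/-!
# Groups between the normaliser of the standard group and the special unitary group
-/

set_option autoImplicit false
set_option linter.unusedSectionVars false

namespace CfsgLib.Classical.QutritU

open Matrix CfsgLib.Classical.QutritMax

variable {K : Type*} [Field K]

/-- The adjoint for the standard Hermitian form on the coordinates. -/
def adj9 (σ : K →+* K) (M : M9 K) : M9 K := (M.map σ)ᵀ

/-- A group between the part of determinant one of the unitary normaliser of the standard group and the special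
unitary group over the field with `p²` elements. -/
structure Amb (σ : K →+* K) (ω : K) (p : ℕ) (H : Subgroup (M9 K)ˣ) : Prop where
  root : Root ω
  quad : Quad σ
  conj : σ ω = ω ^ 2
  prime : p.Prime
  char : CharP K p
  mod_three : p % 3 = 2
  card : Nat.card K = p ^ 2
  unit : ∀ g ∈ H, adj9 σ ((g : (M9 K)ˣ) : M9 K) * g = 1
  det_eq : ∀ g ∈ H, ((g : (M9 K)ˣ) : M9 K).det = 1
  mem : ∀ g : (M9 K)ˣ, adj9 σ (g : M9 K) * g = 1 → (g : M9 K).det = 1 → Nor ω (g : M9 K) → g ∈ H

end CfsgLib.Classical.QutritU
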