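import Cfsg.Agent.Lib.Classical.QutritU.Setting
import Cfsg.Agent.Lib.Classical.GeoThree.C6.Coord
import Cfsg.Agent.Lib.Classical.QutritU.Three.Full
import Cfsg.Agent.Lib.Classical.SUUnipotentPairCases

/-!
# The conjugation is the Frobenius map
-/

set_option autoImplicit false
set_option linter.unusedSectionVars false
set_option linter.style.haveILetI false

namespace CfsgLib.Classical.QutritU

open CfsgLib.Classical CfsgLib.Classical.QutritMax CfsgLib.Classical.GeoThree.C6 Polynomial

variable {K : Type*} [Field K] {σ : K →+* K} {ω : K} {p : ℕ} {H : Subgroup (M9 K)ˣ}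

namespace Amb

variable (hH : Amb σ ω p H) [Finite K]
include hH

theorem fixed_of_pow {x : K} (hx : x ^ p = x) : σ x = x := by
  classical
  haveI := hH.char
  haveI : Fact p.Prime := ⟨hH.prime⟩
  let φ : ZMod p →+* K := ZMod.castHom dvd_rfl K
  let S : Finset K := (Finset.univ : Finset (ZMod p)).image φ
  have hS : S.card = p := by
    rw [Finset.card_image_of_injective _ φ.injective, Finset.card_univ, ZMod.card]
  have hne : (X ^ p - X : K[X]) ≠ 0 := FiniteField.X_pow_card_sub_X_ne_zero K hH.prime.one_lt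
  by_contra hσ
  have hxS : x ∉ S := fun h => by
    obtain ⟨a, -, rfl⟩ := Finset.mem_image.1 h
    exact hσ (by rw [← ZMod.natCast_zmod_val a, map_natCast, map_natCast])
  have h := Polynomial.card_le_degree_of_subset_roots (Z := insert x S) (p := (X ^ p - X : K[X])) (fun y hy => by
    rw [mem_roots hne, IsRoot.def, eval_sub, eval_pow, eval_X, sub_eq_zero]
    rcases Finset.mem_insert.1 hy with rfl | hy
    · exact hx
    · obtain ⟨a, -, rfl⟩ := Finset.mem_image.1 hy
      rw [← map_pow, ZMod.pow_card])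
  rw [FiniteField.X_pow_card_sub_X_natDegree_eq K hH.prime.one_lt, Finset.card_insert_of_notMem hxS, hS] at h
  omega

theorem frob (x : K) : σ x = x ^ p := by
  haveI := hH.char
  haveI : Fact p.Prime := ⟨hH.prime⟩
  haveI : ExpChar K p := ExpChar.prime hH.prime
  obtain ⟨a, ha⟩ := hH.quad.fix (x + σ x) (by rw [map_add, hH.quad.invol, add_comm])
  obtain ⟨b, hb⟩ := hH.quad.fix (x * σ x) (by rw [map_mul, hH.quad.invol, mul_comm])
  have e : x * x - (a : K) * x + (b : K) = 0 := by rw [ha, hb]; ring
  have e' := congrArg (frobenius K p) e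
  simp only [map_sub, map_add, map_mul, map_natCast, map_zero, frobenius_def] at e'
  rw [ha, hb] at e'
  rcases mul_eq_zero.1 (show (x ^ p - x) * (x ^ p - σ x) = 0 by linear_combination e') with h | h
  · rw [sub_eq_zero] at h
    rw [hH.fixed_of_pow h, h]
  · exact (sub_eq_zero.1 h).symm

theorem five_le (h2 : p ≠ 2) : 5 ≤ p := by
  have h := hH.mod_three
  have hp := hH.prime.two_le
  rcases Nat.lt_or_ge p 5 with h5 | h5
  · interval_cases p <;> simp_all
  · exact h5

theorem two_ne_zero' (h2 : p ≠ 2) : (2 : K) ≠ 0 := fun e => by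
  haveI := hH.char
  have : ((2 : ℕ) : K) = 0 := by exact_mod_cast e
  exact h2 ((Nat.prime_dvd_prime_iff_eq hH.prime Nat.prime_two).1 ((CharP.cast_eq_zero_iff K p 2).1 this))

/-- The coordinates of the three-dimensional theorem. -/
def omega (h2 : p ≠ 2) : Omega K := ⟨ω, hH.root.eq, hH.two_ne_zero' h2, hH.root.three⟩

theorem par (h2 : p ≠ 2) : Par σ (hH.omega h2) := by
  classical
  letI := Fintype.ofFinite K
  refine ⟨hH.quad, hH.conj, ?_⟩
  have hF : Fintype.card K = p ^ 2 := by rw [← Nat.card_eq_fintype_card, hH.card]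
  obtain ⟨t, ht⟩ := CfsgLib.Classical.SUUnipotent.exists_norm_one_order (q := p) hH.prime.two_le hF
  refine ⟨t, by rw [hH.frob, ← pow_succ, ← ht, pow_orderOf_eq_one], fun n h0 h5 e => ?_⟩
  have := orderOf_le_of_pow_eq_one h0 e
  have := hH.five_le h2
  omega

end Amb

end CfsgLib.Classical.QutritU
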