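import Cfsg.Agent.Lib.Classical.QutritU.Monomial
import Cfsg.Agent.Lib.Classical.QutritU.Frob
import Cfsg.Agent.Lib.Classical.UFrameMax.Main

/-!
# All monomial members give the whole special unitary group

The monomial members form the stabiliser of the standard frame, a maximal subgroup, and the block
Fourier member is outside it.
-/

set_option autoImplicit false
set_option linter.unusedSectionVars false
set_option linter.unusedSimpArgs false

namespace CfsgLib.Classical.QutritU

open Matrix CfsgLib.Classical.QutritMax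

variable {K : Type*} [Field K]

/-- The transfer between two index types. -/
def trEquiv {ι κ : Type} [Fintype ι] [Fintype κ] [DecidableEq ι] [DecidableEq κ] (e : ι ≃ κ) :
    GL ι K ≃* GL κ K :=
  Units.mapEquiv (Matrix.reindexAlgEquiv K K e).toMulEquiv

theorem trEquiv_val {ι κ : Type} [Fintype ι] [Fintype κ] [DecidableEq ι] [DecidableEq κ] (e : ι ≃ κ)
    (g : GL ι K) :
    ((trEquiv e g : GL κ K) : Matrix κ κ K) = (g : Matrix ι ι K).submatrix e.symm e.symm := rfl

/-- A numbering of the points. -/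
def num9 : Pt ≃ Fin 9 := finProdFinEquiv (m := 3) (n := 3)

variable {σ : K →+* K} {q : ℕ}

/-- Unitary matrices of degree nine as members of the unitary group. -/
theorem mem_GU9_iff (hσ : ∀ x, σ x = x ^ q) (g : GL (Fin 9) K) :
    g ∈ Cfsg.GU 9 K q ↔ ((g : Matrix (Fin 9) (Fin 9) K).map σ)ᵀ * (g : Matrix (Fin 9) (Fin 9) K) = 1 := by
  have e : ∀ u v : Fin 9 → K, Cfsg.hermForm 9 K q u v = (σ ∘ v) ⬝ᵥ u := fun u v => by
    simp [Cfsg.hermForm, dotProduct, hσ, mul_comm]
  have hm : ∀ v : Fin 9 → K, σ ∘ ((g : Matrix (Fin 9) (Fin 9) K) *ᵥ v) =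
      (g : Matrix (Fin 9) (Fin 9) K).map σ *ᵥ (σ ∘ v) := fun v => funext fun i => RingHom.map_mulVec σ _ v i
  have hcalc : ∀ u v, Cfsg.hermForm 9 K q ((g : Matrix (Fin 9) (Fin 9) K) *ᵥ u) ((g : Matrix (Fin 9) (Fin 9) K) *ᵥ v) =
      (σ ∘ v) ⬝ᵥ ((((g : Matrix (Fin 9) (Fin 9) K).map σ)ᵀ * (g : Matrix (Fin 9) (Fin 9) K)) *ᵥ u) := fun u v => by
    rw [e, hm, ← mulVec_mulVec, dotProduct_mulVec (σ ∘ v), vecMul_transpose]
  constructor
  · intro hg
    ext i j
    have h := hg (Pi.single j 1) (Pi.single i 1)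
    change Cfsg.hermForm 9 K q ((g : Matrix (Fin 9) (Fin 9) K) *ᵥ _) ((g : Matrix (Fin 9) (Fin 9) K) *ᵥ _) = _ at h
    rw [hcalc, e, show σ ∘ (Pi.single i (1 : K) : Fin 9 → K) = Pi.single i 1 from funext fun k => by
      simp [Pi.single_apply, apply_ite σ], single_one_dotProduct, single_one_dotProduct,
      mulVec_single_one, Matrix.col_apply] at h
    rw [h, Matrix.one_apply, Pi.single_apply]
  · intro hg u v
    change Cfsg.hermForm 9 K q ((g : Matrix (Fin 9) (Fin 9) K) *ᵥ _) ((g : Matrix (Fin 9) (Fin 9) K) *ᵥ _) = _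
    rw [hcalc, hg, one_mulVec, e]

/-- Unitary matrices on the points as members of the unitary group. -/
theorem tr_mem_GU_iff (hσ : ∀ x, σ x = x ^ q) (g : (M9 K)ˣ) :
    trEquiv num9 g ∈ Cfsg.GU 9 K q ↔ U9 σ (g : M9 K) := by
  rw [mem_GU9_iff hσ, trEquiv_val, ← submatrix_map, transpose_submatrix, submatrix_mul_equiv, U9, adj9]
  constructor
  · intro h
    have := congrArg (fun A => A.submatrix num9 num9) h
    simpa [submatrix_submatrix] using this
  · intro h
    rw [h, Matrix.submatrix_one_equiv]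

theorem tr_mem_SL_iff (g : (M9 K)ˣ) :
    trEquiv num9 g ∈ Cfsg.Geo.specialLinear (Fin 9) K ↔ (g : M9 K).det = 1 := by
  rw [CfsgLib.Classical.mem_specialLinear_iff, trEquiv_val, Matrix.det_submatrix_equiv_self]

/-- The lines of the standard frame. -/
def frameLines (K : Type*) [Field K] (i : Fin 9) : Submodule K (Fin 9 → K) :=
  Submodule.span K {(Pi.single i (1 : K) : Fin 9 → K)}

theorem frameLines_decomp (hq : q ≠ 0) : Cfsg.Geo.IsNondegenerateMDecomposition (Cfsg.hermForm 9 K q) 1 (frameLines K) := by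
  have hf : ∀ (i j : Fin 9) (a b : K), Cfsg.hermForm 9 K q (a • Pi.single i 1) (b • Pi.single j 1)
      = ∑ k, (a * (Pi.single i (1 : K) : Fin 9 → K) k) * (b * (Pi.single j (1 : K) : Fin 9 → K) k) ^ q := fun i j a b => rfl
  have hli : LinearIndependent K (fun i : Fin 9 => (Pi.single i (1 : K) : Fin 9 → K)) :=
    by
    have h := (Pi.basisFun K (Fin 9)).linearIndependent
    rwa [show (⇑(Pi.basisFun K (Fin 9))) = fun i => (Pi.single i (1 : K) : Fin 9 → K) from
      funext fun i => Pi.basisFun_apply K (Fin 9) i] at h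
  refine ⟨⟨by norm_num, one_pos, fun i => finrank_span_singleton (by simp), hli.iSupIndep_span_singleton, ?_⟩,
    fun i => ?_, fun i j hij u hu v hv => ?_⟩
  · rw [eq_top_iff, ← (Pi.basisFun K (Fin 9)).span_eq, Submodule.span_le]
    rintro _ ⟨i, rfl⟩
    exact Submodule.mem_iSup_of_mem i (by rw [Pi.basisFun_apply]; exact Submodule.mem_span_singleton_self _)
  · intro w hw hw0
    obtain ⟨a, rfl⟩ := Submodule.mem_span_singleton.1 hw
    have ha : a ≠ 0 := fun h => hw0 (by rw [h, zero_smul])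
    have hval : Cfsg.hermForm 9 K q (a • Pi.single i 1) (a • Pi.single i 1) = a * a ^ q := by
      rw [hf, Finset.sum_eq_single i]
      · simp
      · intro k _ hk; simp [hk]
      · simp
    exact ⟨⟨_, hw, by rw [hval]; exact mul_ne_zero ha (pow_ne_zero _ ha)⟩,
      ⟨_, hw, by rw [hval]; exact mul_ne_zero ha (pow_ne_zero _ ha)⟩⟩
  · obtain ⟨a, rfl⟩ := Submodule.mem_span_singleton.1 hu
    obtain ⟨b, rfl⟩ := Submodule.mem_span_singleton.1 hv
    rw [hf]
    refine Finset.sum_eq_zero fun k _ => ?_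
    rcases eq_or_ne k i with rfl | hk
    · simp [Pi.single_eq_of_ne hij, zero_pow hq]
    · simp [Pi.single_eq_of_ne hk]

theorem mem_frame_stab_iff (g : GL (Fin 9) K) :
    g ∈ Cfsg.Geo.decompositionStabilizer (frameLines K) ↔
      ∃ π : Equiv.Perm (Fin 9), ∀ i j, i ≠ π j → (g : Matrix (Fin 9) (Fin 9) K) i j = 0 := by
  have hmap : ∀ j, (frameLines K j).map (Matrix.toLin' (g : Matrix (Fin 9) (Fin 9) K)) =
      Submodule.span K {(g : Matrix (Fin 9) (Fin 9) K) *ᵥ Pi.single j 1} := fun j => by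
    rw [frameLines, Submodule.map_span, Set.image_singleton, Matrix.toLin'_apply]
  constructor
  · rintro ⟨π, hπ⟩
    refine ⟨π, fun i j hij => ?_⟩
    have h : (g : Matrix (Fin 9) (Fin 9) K) *ᵥ Pi.single j 1 ∈ frameLines K (π j) := by
      rw [← hπ j, hmap]
      exact Submodule.mem_span_singleton_self _
    obtain ⟨a, ha⟩ := Submodule.mem_span_singleton.1 h
    have := congrFun ha i
    simp [Pi.single_eq_of_ne hij, mulVec_single_one] at this
    exact this.symm
  · rintro ⟨π, hπ⟩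
    refine ⟨π, fun j => ?_⟩
    have hcol : (g : Matrix (Fin 9) (Fin 9) K) *ᵥ Pi.single j 1 =
        (g : Matrix (Fin 9) (Fin 9) K) (π j) j • (Pi.single (π j) (1 : K) : Fin 9 → K) := funext fun i => by
      rcases eq_or_ne i (π j) with rfl | hi
      · simp [mulVec_single_one]
      · simp [mulVec_single_one, hπ i j hi, Pi.single_eq_of_ne hi]
    have hne : (g : Matrix (Fin 9) (Fin 9) K) (π j) j ≠ 0 := fun h0 => by
      rw [h0, zero_smul] at hcol
      have := congrArg (fun v => ((g⁻¹ : GL (Fin 9) K) : Matrix (Fin 9) (Fin 9) K) *ᵥ v) hcol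
      simp only [mulVec_mulVec, ← Units.val_mul, inv_mul_cancel, Units.val_one, one_mulVec, mulVec_zero] at this
      have h1 := congrFun this j
      rw [Pi.single_eq_same, Pi.zero_apply] at h1
      exact one_ne_zero h1
    rw [hmap, hcol, frameLines, Submodule.span_singleton_smul_eq (IsUnit.mk0 _ hne)]

namespace Amb

variable {ω : K} {p : ℕ} {H : Subgroup (M9 K)ˣ}

/-- All monomial members give everything. -/
theorem full_of_monomial [Finite K] (hH : Amb σ ω p H)
    (hm : ∀ g : (M9 K)ˣ, U9 σ (g : M9 K) → (g : M9 K).det = 1 →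
      (∃ π : Equiv.Perm Pt, ∀ i j, i ≠ π j → (g : M9 K) i j = 0) → g ∈ H)
    (g : (M9 K)ˣ) (hu : U9 σ (g : M9 K)) (hd : (g : M9 K).det = 1) : g ∈ H := by
  classical
  have : Fintype K := Fintype.ofFinite K
  have hσ := hH.frob
  have hF : Fintype.card K = p ^ 2 := by rw [← Nat.card_eq_fintype_card]; exact hH.card
  set D := frameLines K
  set G9 := Cfsg.GU 9 K p ⊓ Cfsg.Geo.specialLinear (Fin 9) K
  have hmem : ∀ k : (M9 K)ˣ, trEquiv num9 k ∈ G9 ↔ U9 σ (k : M9 K) ∧ (k : M9 K).det = 1 := fun k => by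
    rw [Subgroup.mem_inf, tr_mem_GU_iff hσ, tr_mem_SL_iff]
  set M : Subgroup (GL (Fin 9) K) := H.map (trEquiv num9).toMonoidHom
  have hmemM : ∀ k, trEquiv num9 k ∈ M → k ∈ H := by
    rintro k ⟨k', hk', e⟩
    exact (trEquiv (K := K) num9).injective e ▸ hk'
  have hMG : M ≤ G9 := by
    rintro _ ⟨k, hk, rfl⟩
    exact (hmem k).2 ⟨hH.u9_of hk, hH.det_eq k hk⟩
  have hmono : ∀ k : (M9 K)ˣ, trEquiv num9 k ∈ Cfsg.Geo.decompositionStabilizer D ↔
      ∃ π : Equiv.Perm Pt, ∀ i j, i ≠ π j → (k : M9 K) i j = 0 := fun k => by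
    rw [mem_frame_stab_iff]
    constructor
    · rintro ⟨π, hπ⟩
      refine ⟨num9.trans (π.trans num9.symm), fun i j hij => ?_⟩
      have := hπ (num9 i) (num9 j) fun e => hij (by simp [← e])
      simpa [trEquiv_val] using this
    · rintro ⟨π, hπ⟩
      refine ⟨num9.symm.trans (π.trans num9), fun i j hij => ?_⟩
      rw [trEquiv_val, submatrix_apply]
      exact hπ _ _ fun e => hij (by simp [← e])
  have hle : Cfsg.Geo.decompositionStabilizer D ⊓ G9 ≤ M := by
    intro x hx
    obtain ⟨k, rfl⟩ := (trEquiv (K := K) num9).surjective x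
    obtain ⟨h1, h2⟩ := (hmem k).1 hx.2
    exact ⟨k, hm k h1 h2 ((hmono k).1 hx.1), rfl⟩
  rcases (UFrameMax.decomposition_stabilizer_isMaximalIn hF (frameLines_decomp (q := p) hH.prime.ne_zero) (by norm_num)
    (by simp) (fun _ => ⟨by norm_num, fun _ => by norm_num⟩)).2 M hle hMG with e | e
  · obtain ⟨k, hk, ek⟩ := hH.in_F3
    have hkM : trEquiv num9 k ∈ M := ⟨k, hk, rfl⟩
    rw [e] at hkM
    obtain ⟨π, hπ⟩ := (hmono k).1 hkM.1
    have h1 : ∀ a : ZMod 3, π (0, 0) = ((0, a) : Pt) := fun a => by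
      by_contra hne
      have := hπ (0, a) (0, 0) (Ne.symm hne)
      rw [ek, blk_apply, if_pos rfl, F3, of_apply] at this
      exact mul_ne_zero (inv_ne_zero (s_ne hH.root)) (wp_ne_zero hH.root _) this
    exact absurd ((h1 0).symm.trans (h1 1)) (by decide)
  · exact hmemM g (e ▸ (hmem g).2 ⟨hu, hd⟩)

end Amb

end CfsgLib.Classical.QutritU
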