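import Cfsg.Agent.Lib.Classical.QutritU.Big
import Cfsg.Agent.Lib.Classical.QutritU.Frame
import Cfsg.Agent.Lib.Classical.QutritU.Small.Global
import Cfsg.Agent.Lib.Classical.QutritU.Small.Two

/-!
# The dichotomy for groups above the normaliser of the standard group
-/

set_option autoImplicit false

namespace CfsgLib.Classical.QutritU

open Matrix CfsgLib.Classical.QutritMax

/-- A group between the unitary normaliser of the standard group and the special unitary group is one of the
two. -/
theorem Amb.dichotomy {K : Type*} [Field K] [Finite K] {σ : K →+* K} {ω : K} {p : ℕ} {H : Subgroup (M9 K)ˣ}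
    (hH : Amb σ ω p H) :
    (∀ g ∈ H, Nor ω ((g : (M9 K)ˣ) : M9 K)) ∨
      (∀ g : (M9 K)ˣ, adj9 σ (g : M9 K) * g = 1 → (g : M9 K).det = 1 → g ∈ H) := by
  by_cases hS : SM ω H
  · refine Or.inl fun g hg => ?_
    by_cases h2 : p = 2
    · exact hH.nor_all_two h2 hS hg
    · exact hH.nor_all h2 hS hg
  · exact Or.inr fun g hu hd => full_of_monomial hH (hH.monomial_of_not_sm hS) g hu hd

end CfsgLib.Classical.QutritU
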