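import Cfsg.Agent.Lib.Classical.QutritU.CaseB

/-!
# A class sum that is not zero gives the even permutations
-/

set_option autoImplicit false
set_option linter.unusedSectionVars false
set_option linter.unusedSimpArgs false

namespace CfsgLib.Classical.QutritU

open Matrix CfsgLib.Classical.QutritMax

variable {K : Type*} [Field K] {σ : K →+* K} {ω : K}

/-- A block at the origin of the first coordinate. -/
def bd0 (B : M3' K) : M9 K := bd fun a => if a = 0 then B else 1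

theorem bd0_mul (B C : M3' K) : bd0 B * bd0 C = bd0 (B * C) := by
  rw [bd0, bd0, bd0, bd_mul]
  refine congrArg bd (funext fun a => ?_)
  split_ifs with h <;> simp

theorem bd0_one : bd0 (1 : M3' K) = 1 := by
  simp [bd0, bd_one]

theorem span_table : ∀ S x : Pt, S ≠ 0 → ∃ a b : ZMod 3, x = (a * S.1 - b * S.2, a * S.2 + b * S.1) := by
  decide +kernel

theorem bijective_colFun :
    (∀ p : Pt, (fun q : Pt => if q.1 = 0 then (q.1, q.2 - 1) else q)
      ((fun q : Pt => if q.1 = 0 then (q.1, q.2 + 1) else q) p) = p) ∧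
    ∀ p : Pt, (fun q : Pt => if q.1 = 0 then (q.1, q.2 + 1) else q)
      ((fun q : Pt => if q.1 = 0 then (q.1, q.2 - 1) else q) p) = p := by
  decide +kernel

/-- The cycle on one column. -/
def colCyc : Equiv.Perm Pt where
  toFun p := if p.1 = 0 then (p.1, p.2 + 1) else p
  invFun p := if p.1 = 0 then (p.1, p.2 - 1) else p
  left_inv := bijective_colFun.1
  right_inv := bijective_colFun.2

theorem bijective_flipBut : ∀ c : ZMod 3,
    ∀ p : Pt, (fun q : Pt => if q.1 = c then q else (q.1, -q.2))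
      ((fun q : Pt => if q.1 = c then q else (q.1, -q.2)) p) = p := by
  decide +kernel

/-- The reflection on two columns. -/
def flipBut (c : ZMod 3) : Equiv.Perm Pt where
  toFun p := if p.1 = c then p else (p.1, -p.2)
  invFun p := if p.1 = c then p else (p.1, -p.2)
  left_inv := bijective_flipBut c
  right_inv := bijective_flipBut c

/-- The conjugate of the column cycle by an affine map. -/
def cyc (a b c d : ZMod 3) (u : Pt) (h : a * d - b * c ≠ 0) : Equiv.Perm Pt :=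
  (Equiv.addRight u * linEquiv a b c d h) * colCyc * (Equiv.addRight u * linEquiv a b c d h)⁻¹

theorem flipBut_two :
    flipBut 2 = cyc 0 1 1 0 (0, 2) (by decide) * cyc 0 2 1 2 (0, 0) (by decide) * cyc 0 1 1 0 (0, 2) (by decide) *
      cyc 1 0 0 2 (0, 0) (by decide) * cyc 0 1 1 1 (0, 0) (by decide) := by
  decide +kernel

theorem flipBut_zero :
    flipBut 0 = cyc 0 1 1 1 (0, 0) (by decide) * cyc 0 1 1 2 (0, 0) (by decide) * cyc 0 1 1 1 (0, 0) (by decide) *
      cyc 0 1 1 2 (0, 0) (by decide) * cyc 0 1 1 1 (0, 0) (by decide) := by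
  decide +kernel

theorem swap_eq : Equiv.swap ((0, 1) : Pt) (0, 2) = linEquiv 1 0 0 2 (by decide) * flipBut 0 := by
  decide +kernel

namespace Amb

variable {p : ℕ} {H : Subgroup (M9 K)ˣ} (hH : Amb σ ω p H) [Finite K]
include hH

/-- A class sum that is not zero isolates all members on one column. -/
theorem bd0_all {k : ZMod 3 → ZMod 3} {v : ZMod 3 → Pt}
    (hM : In H (bd fun a => r2 ω (k a) (v a).1 (v a).2)) (hS : v 0 + v 1 + v 2 ≠ 0) (i j : ZMod 3) :
    In H (bd0 (r2 ω 0 i j : M3' K)) := by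
  have hω := hH.root
  obtain ⟨α, hα⟩ : ∃ α : Pt, α = v 1 + v 2 := ⟨_, rfl⟩
  obtain ⟨β, hβ⟩ : ∃ β : Pt, β = v 1 - v 2 := ⟨_, rfl⟩
  obtain ⟨n, hn, en⟩ := hH.in_affine β.1 β.2
  obtain ⟨f, hf⟩ : ∃ f : ZMod 3 → ZMod 3, f = fun a =>
      k a + (v a).2 * α.1 + ((v a).2 + α.2) * (a * β.1) := ⟨_, rfl⟩
  have h1 := ((hM.mul (hH.in_R (inR_blk hω 0 α.1 α.2))).mul ⟨n, hn.1, en⟩).mul (hH.in_fst fun a => -f a)
  have e1 : (bd fun a => r2 ω (k a) (v a).1 (v a).2) * blk (r2 ω 0 α.1 α.2) *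
      (bd fun a => r2 ω 0 (a * β.1) (a * β.2)) * (bd fun a => wp ω (-f a) • (1 : M3' K)) =
      bd0 (r2 ω 0 (v 0 + v 1 + v 2).1 (v 0 + v 1 + v 2).2) := by
    rw [blk_eq_bd, bd_mul, bd_mul, bd_mul, bd0]
    refine congrArg bd (funext fun a => ?_)
    rw [Matrix.mul_smul, mul_one, r2_mul hω, r2_mul hω, r2_eq_smul hω (_ + _ + _), smul_smul, ← wp_add hω, hf]
    simp only [add_zero, neg_add_cancel, wp_zero, one_smul]
    have t : ∀ x y z : Pt, x + (y + z) = x + y + z ∧ y + (y + z) + (y - z) = 0 ∧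
        z + (y + z) + (2 * (y.1 - z.1), 2 * (y.2 - z.2)) = 0 := by decide +kernel
    obtain ⟨t0, t1, t2⟩ := t (v 0) (v 1) (v 2)
    rcases zmod3_cases a with rfl | rfl | rfl
    · rw [if_pos rfl, ← t0, hα]
      simp
    · have a1 := congrArg Prod.fst t1
      have a2 := congrArg Prod.snd t1
      rw [if_neg (by decide), ← r2_one (ω := ω), hα, hβ]
      simp only [one_mul, Prod.fst_add, Prod.snd_add, Prod.fst_sub, Prod.snd_sub, Prod.fst_zero,
        Prod.snd_zero] at a1 a2 ⊢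
      rw [a1, a2]
    · have a1 := congrArg Prod.fst t2
      have a2 := congrArg Prod.snd t2
      rw [if_neg (by decide), ← r2_one (ω := ω), hα, hβ]
      simp only [Prod.fst_add, Prod.snd_add, Prod.fst_sub, Prod.snd_sub, Prod.fst_zero,
        Prod.snd_zero] at a1 a2 ⊢
      rw [a1, a2]
  rw [e1] at h1
  generalize hgen : v 0 + v 1 + v 2 = S at hS h1
  -- classes are closed under addition
  have add : ∀ {x y : Pt}, (∃ l, In H (bd0 (r2 ω l x.1 x.2))) → (∃ l, In H (bd0 (r2 ω l y.1 y.2))) →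
      ∃ l, In H (bd0 (r2 ω l (x.1 + y.1) (x.2 + y.2))) := by
    rintro x y ⟨l, hl⟩ ⟨m, hm⟩
    have := hl.mul hm
    rw [bd0_mul, r2_mul hω] at this
    exact ⟨_, this⟩
  have hzero : ∃ l, In H (bd0 (r2 ω l 0 0)) := ⟨0, by rw [r2_one, bd0_one]; exact in_one H⟩
  obtain ⟨l, hl⟩ := F3_r2 hω S.1 S.2
  have hrot : ∃ l, In H (bd0 (r2 ω l (-S.2) S.1)) := ⟨l, in_conj hH.in_F3 h1 (by
    rw [bd0, bd0, blk_eq_bd, bd_mul, bd_mul]
    refine congrArg bd (funext fun a => ?_)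
    split_ifs
    · exact hl
    · rw [mul_one, one_mul])⟩
  have mult : ∀ {x : Pt}, (∃ l, In H (bd0 (r2 ω l x.1 x.2))) → ∀ a : ZMod 3,
      ∃ l, In H (bd0 (r2 ω l (a * x.1) (a * x.2))) := by
    intro x hx a
    rcases zmod3_cases a with rfl | rfl | rfl
    · simpa using hzero
    · simpa using hx
    · simpa [two_mul] using add hx hx
  obtain ⟨a, b, hab⟩ := span_table S (i, j) hS
  obtain ⟨m, hm⟩ := add (x := (a * S.1, a * S.2)) (y := (b * -S.2, b * S.1)) (mult ⟨0, h1⟩ a)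
    (mult (x := (-S.2, S.1)) hrot b)
  obtain ⟨hi, hj⟩ := Prod.ext_iff.1 hab
  simp only at hi hj hm
  rw [mul_neg, ← sub_eq_add_neg, ← hi, ← hj] at hm
  by_cases h0 : (i, j) = (0 : Pt)
  · simp only [Prod.ext_iff, Prod.fst_zero, Prod.snd_zero] at h0
    rw [h0.1, h0.2, r2_one, bd0_one]; exact in_one H
  obtain ⟨x, y, hxy⟩ : ∃ x y : ZMod 3, y * i - j * x = -m := by
    have : ∀ u : Pt, u ≠ 0 → ∀ m : ZMod 3, ∃ x y : ZMod 3, y * u.1 - u.2 * x = -m := by decide +kernel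
    exact this (i, j) h0 m
  refine in_conj (hH.in_R (inR_blk hω 0 x y)) hm ?_
  rw [bd0, bd0, blk_eq_bd, bd_mul, bd_mul]
  refine congrArg bd (funext fun a => ?_)
  split_ifs
  · rw [r2_eq_smul hω m, Matrix.mul_smul, r2_comm hω, smul_smul, ← wp_add hω, hxy, add_neg_cancel, wp_zero,
      one_smul]
  · rw [mul_one, one_mul]

theorem pm_colCyc (h : In H (bd0 (r2 ω 0 1 0 : M3' K))) : In H (pm colCyc : M9 K) := by
  convert h using 1
  ext ⟨a, b⟩ ⟨x, y⟩
  rw [pm_apply, bd0, bd_apply]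
  simp only [colCyc, Equiv.coe_fn_mk]
  by_cases e : a = x
  · subst e
    by_cases e0 : a = 0 <;> simp [e0, r2_apply, wp_zero, Matrix.one_apply]
  · by_cases e0 : x = 0
    · subst e0; simp [e]
    · simp [e0, e]

theorem pm_cyc (h : In H (pm colCyc : M9 K)) (a b c d : ZMod 3) (u : Pt) (hd : a * d - b * c ≠ 0) :
    In H (pm (cyc a b c d u hd) : M9 K) := by
  have hM := (hH.in_sh u).mul (hH.in_signed (linEquiv_add a b c d hd))
  rw [Matrix.mul_smul, sh, pm_mul] at hM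
  exact in_conj hM h (by rw [Matrix.smul_mul, pm_mul, cyc, Matrix.mul_smul, pm_mul, inv_mul_cancel_right])

theorem in_pm_mul {π ρ : Equiv.Perm Pt} (h1 : In H (pm π : M9 K)) (h2 : In H (pm ρ : M9 K)) :
    In H (pm (π * ρ) : M9 K) := by rw [← pm_mul]; exact h1.mul h2

theorem pm_flip_two (h : In H (pm colCyc : M9 K)) : In H (pm (flipBut 2) : M9 K) := by
  rw [flipBut_two]
  exact hH.in_pm_mul (hH.in_pm_mul (hH.in_pm_mul (hH.in_pm_mul (hH.pm_cyc h _ _ _ _ _ _)
    (hH.pm_cyc h _ _ _ _ _ _)) (hH.pm_cyc h _ _ _ _ _ _)) (hH.pm_cyc h _ _ _ _ _ _)) (hH.pm_cyc h _ _ _ _ _ _)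

theorem pm_flip_zero (h : In H (pm colCyc : M9 K)) : In H (pm (flipBut 0) : M9 K) := by
  rw [flipBut_zero]
  exact hH.in_pm_mul (hH.in_pm_mul (hH.in_pm_mul (hH.in_pm_mul (hH.pm_cyc h _ _ _ _ _ _)
    (hH.pm_cyc h _ _ _ _ _ _)) (hH.pm_cyc h _ _ _ _ _ _)) (hH.pm_cyc h _ _ _ _ _ _)) (hH.pm_cyc h _ _ _ _ _ _)

end Amb

end CfsgLib.Classical.QutritU
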