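import Cfsg.Agent.Lib.Classical.QutritU.Even

/-!
# The space moved by the reflection of the second coordinate
-/

set_option autoImplicit false
set_option linter.unusedSectionVars false
set_option linter.unusedSimpArgs false
set_option linter.style.haveILetI false

namespace CfsgLib.Classical.QutritU

open Matrix CfsgLib.Classical CfsgLib.Classical.QutritMax CfsgLib.Classical.GeoThree.C6
open scoped MatrixGroups

variable {K : Type*} [Field K] {σ : K →+* K} {ω : K}

/-- The reflection of the second coordinate. -/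
def flA : Equiv.Perm Pt where
  toFun p := (p.1, -p.2)
  invFun p := (p.1, -p.2)
  left_inv p := by simp
  right_inv p := by simp

theorem flA_apply (p : Pt) : flA p = (p.1, -p.2) := rfl

theorem flA_symm_apply (p : Pt) : flA.symm p = (p.1, -p.2) := rfl

/-- The members commuting with the reflection. -/
def cS (H : Subgroup (M9 K)ˣ) : Subgroup (M9 K)ˣ where
  carrier := {g | g ∈ H ∧ Commute (g : M9 K) (pm flA)}
  one_mem' := ⟨one_mem H, by rw [Units.val_one]; exact Commute.one_left _⟩
  mul_mem' := fun {g k} hg hk => ⟨mul_mem hg.1 hk.1, by rw [Units.val_mul]; exact hg.2.mul_left hk.2⟩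
  inv_mem' := fun {g} hg => ⟨inv_mem hg.1, hg.2.units_inv_left⟩

theorem cS_symm {g : M9 K} (hg : Commute g (pm flA)) (a b c d : ZMod 3) :
    g (a, b) (c, d) = g (a, -b) (c, -d) := by
  have e := congrFun (congrFun hg.eq (a, -b)) (c, d)
  rw [mul_pm_apply, pm_mul_apply] at e
  simpa [flA_apply, flA_symm_apply] using e.symm

/-- The matrix on the space moved by the reflection. -/
def res (g : M9 K) : M3' K := of fun x a => g (x, 1) (a, 1) - g (x, 1) (a, 2)

theorem res_one : res (1 : M9 K) = 1 := by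
  ext x a
  simp +decide [res, Matrix.one_apply]

theorem res_mul {g k : M9 K} (hk : Commute k (pm flA)) : res (g * k) = res g * res k := by
  ext x a
  have h0 : ∀ y, k (y, 0) (a, 2) = k (y, 0) (a, 1) := fun y => by
    rw [cS_symm hk]; simp [show (-2 : ZMod 3) = 1 by decide, show (-1 : ZMod 3) = 2 by decide]
  have h1 : ∀ y, k (y, 2) (a, 1) = k (y, 1) (a, 2) := fun y => by
    rw [cS_symm hk]; simp [show (-2 : ZMod 3) = 1 by decide, show (-1 : ZMod 3) = 2 by decide]
  have h2 : ∀ y, k (y, 2) (a, 2) = k (y, 1) (a, 1) := fun y => by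
    rw [cS_symm hk]; simp [show (-2 : ZMod 3) = 1 by decide, show (-1 : ZMod 3) = 2 by decide]
  simp only [res, of_apply, Matrix.mul_apply, Fintype.sum_prod_type, sum3, h0, h1, h2]
  ring

/-- The homomorphism to the space moved by the reflection. -/
def resHom (H : Subgroup (M9 K)ˣ) : cS H →* M3' K where
  toFun g := res ((g : (M9 K)ˣ) : M9 K)
  map_one' := by simp [res_one]
  map_mul' g k := by
    simp only [Subgroup.coe_mul, Units.val_mul]
    exact res_mul k.2.2

/-- The same with values in invertible matrices. -/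
def resU (H : Subgroup (M9 K)ˣ) : cS H →* GL (Fin 3) K := (resHom H).toHomUnits

/-- The members fixing the complement of the moved space. -/
def cP (H : Subgroup (M9 K)ˣ) : Subgroup (cS H) where
  carrier := {g | ((g : (M9 K)ˣ) : M9 K) * (1 + pm flA) = 1 + pm flA}
  one_mem' := by simp
  mul_mem' := fun {g k} hg hk => by
    simp only [Set.mem_setOf_eq] at hg hk ⊢
    rw [Subgroup.coe_mul, Units.val_mul, mul_assoc, hk, hg]
  inv_mem' := fun {g} hg => by
    simp only [Set.mem_setOf_eq] at hg ⊢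
    rw [Subgroup.coe_inv]
    conv_lhs => rw [← hg, ← mul_assoc, Units.inv_mul, one_mul]

theorem cP_normal {H : Subgroup (M9 K)ˣ} {k : cS H} (hk : k ∈ cP H) (m : cS H) : m * k * m⁻¹ ∈ cP H := by
  have hm : Commute ((m⁻¹ : cS H) : (M9 K)ˣ).val (1 + pm flA) :=
    (Commute.one_right _).add_right (m⁻¹).2.2
  show ((m * k * m⁻¹ : cS H) : (M9 K)ˣ).val * (1 + pm flA) = 1 + pm flA
  rw [Subgroup.coe_mul, Subgroup.coe_mul, Units.val_mul, Units.val_mul, mul_assoc, hm.eq, ← mul_assoc,
    mul_assoc (_ : M9 K) _ (1 + pm flA), show ((k : (M9 K)ˣ) : M9 K) * (1 + pm flA) = 1 + pm flA from hk]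
  have hm2 : Commute ((m : cS H) : (M9 K)ˣ).val (1 + pm flA) := (Commute.one_right _).add_right m.2.2
  rw [hm2.eq, mul_assoc, Subgroup.coe_inv, Units.mul_inv, mul_one]

/-- The Fourier matrix on the first coordinate. -/
def fst3 (ω : K) : M9 K := of fun i j => if i.2 = j.2 then F3 ω i.1 j.1 else 0

namespace Amb

variable {p : ℕ} {H : Subgroup (M9 K)ˣ} (hH : Amb σ ω p H) [Finite K]
include hH

theorem in_fst3 : In H (fst3 ω) := by
  have h10 : (0 : ZMod 3) * 0 - 1 * 1 ≠ 0 := by decide
  have hM := hH.in_signed (linEquiv_add 0 1 1 0 h10)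
  refine in_conj hM hH.in_F3 ?_
  rw [Matrix.smul_mul, Matrix.mul_smul]
  congr 1
  ext ⟨a, b⟩ ⟨c, d⟩
  rw [pm_mul_apply, mul_pm_apply]
  simp [linEquiv, linFun, show (-1 : ZMod 3) * -1 = 1 by decide, blk, fst3, Matrix.one_apply]

theorem res_of {M : M9 K} (hM : In H M) (hc : Commute M (pm flA)) {G : GL (Fin 3) K}
    (e : res M = (Units.val G : M3' K)) : G ∈ (resU H).range := by
  obtain ⟨g, hg, rfl⟩ := hM
  exact ⟨⟨g, hg, hc⟩, Units.ext e⟩

theorem u3_res (g : cS H) : U3 σ (res ((g : (M9 K)ˣ) : M9 K)) := by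
  have e : res (adj9 σ ((g : (M9 K)ˣ) : M9 K)) = adj3 σ (res ((g : (M9 K)ˣ) : M9 K)) := by
    ext x a
    simp only [res, of_apply, adj9, adj3, transpose_apply, map_apply, map_sub]
    rw [cS_symm g.2.2 a 2 x 1]
    simp [show (-2 : ZMod 3) = 1 by decide, show (-1 : ZMod 3) = 2 by decide]
  rw [U3, ← e, ← res_mul g.2.2, hH.u9_of g.2.1, res_one]

theorem ov_res (h2 : p ≠ 2) : Ov σ (hH.omega h2) (resU H).range := by
  have hω := hH.root
  have cd : ∀ f : ZMod 3 → ZMod 3, Commute (dg ω fun w : Pt => f w.1) (pm flA : M9 K) := fun f => by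
    rw [Commute, SemiconjBy, pm_mul_dg]
    congr 2
  have rd : ∀ f : ZMod 3 → ZMod 3, res (dg ω fun w : Pt => f w.1) = diagonal fun x => wp ω (f x) := fun f => by
    ext x a
    simp +decide [res, dg, diagonal_apply]
  refine ⟨?_, ?_, ?_, ?_, ?_⟩
  · rintro _ ⟨g, rfl⟩
    exact hH.u3_res g
  · refine hH.res_of (hH.in_dg (quadr_fst fun a => a)) (cd fun a => a) ?_
    rw [rd fun a => a, dG_r2, r2_diag]
    congr 1; funext x; rw [one_mul]; rfl
  · refine hH.res_of (hH.in_sh (1, 0)) ?_ ?_
    · show Commute (pm _) (pm flA : M9 K)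
      rw [Commute, SemiconjBy, pm_mul, pm_mul]
      congr 1
      decide +kernel
    · rw [pG_r2]
      ext x a
      rw [res, of_apply, sh_apply, sh_apply, r2_apply]
      by_cases e : x = a + 1 <;> simp +decide [e, wp_zero]
  · refine hH.res_of hH.in_fst3 ?_ ?_
    · ext ⟨a, b⟩ ⟨c, d⟩
      rw [mul_pm_apply, pm_mul_apply, flA_apply, flA_symm_apply]
      simp only [fst3, of_apply]
      exact if_congr (by rw [neg_eq_iff_eq_neg, eq_comm (a := b)]) rfl rfl
    · rw [fG_eq]
      ext x a
      simp +decide [res, fst3, Amb.omega]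
  · refine hH.res_of (hH.in_dg (quadr_fst fun a => 1 - a * a)) (cd fun a => 1 - a * a) ?_
    rw [rd fun a => 1 - a * a, tauG_eq]
    rfl

/-- The even double reflection leads to a block outside the normaliser. -/
theorem row_of_flip (h2 : p ≠ 2) (h : In H (pm (flipBut 2) : M9 K)) :
    ∃ g ∈ cX ω H, ∃ a, ¬Nor3 ω (rowM ((g : (M9 K)ˣ) : M9 K) a) := by
  classical
  letI := Fintype.ofFinite K
  have hω := hH.root
  have h20 := hH.two_ne_zero' h2
  obtain ⟨π, hπH, eπ⟩ := h
  have hπc : Commute (π : M9 K) (pm flA) := by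
    rw [eπ, Commute, SemiconjBy, pm_mul, pm_mul]
    congr 1
    decide +kernel
  obtain ⟨P, hP⟩ : ∃ P : cS H, P = ⟨π, hπH, hπc⟩ := ⟨_, rfl⟩
  have hPP : P ∈ cP H := by
    show ((P : (M9 K)ˣ) : M9 K) * (1 + pm flA) = 1 + pm flA
    rw [hP, eπ, mul_add, mul_one, pm_mul]
    ext ⟨a, b⟩ ⟨c, d⟩
    rw [Matrix.add_apply, Matrix.add_apply, pm_apply, pm_apply, pm_apply, Matrix.one_apply]
    simp only [Equiv.Perm.mul_apply, flA_apply, flipBut, Equiv.coe_fn_mk, Prod.mk.injEq]
    by_cases hc : c = 2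
    · simp [hc]
    · simp [hc, add_comm]
  have hPres : res ((P : (M9 K)ˣ) : M9 K) = diagonal fun x => if x = 2 then (1 : K) else -1 := by
    ext x a
    rw [hP, eπ, res, of_apply, pm_apply, pm_apply, diagonal_apply]
    rcases zmod3_cases x with rfl | rfl | rfl <;> rcases zmod3_cases a with rfl | rfl | rfl <;>
      simp +decide [flipBut]
  have hfull : IsFull σ (resU H).range := by
    rcases full_or_normalizes (hH.par h2) (hH.ov_res h2) with h | h
    · exact h
    · exfalso
      have hn : Nor3 ω (res ((P : (M9 K)ˣ) : M9 K)) := nor3_of_normalizes (hH.omega h2) (h _ ⟨P, rfl⟩)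
      rw [hPres] at hn
      obtain ⟨k, hk⟩ := hn.diag_step (fun x => by split_ifs <;> simp) 0
      simp +decide at hk
      have h3 := congrArg (· ^ 3) hk
      simp only [wp, ← pow_mul, mul_comm k.val 3] at h3
      rw [pow_mul, hω.pow_three, one_pow] at h3
      exact h20 (by linear_combination -h3)
  obtain ⟨N, hN⟩ : ∃ N, N = (cP H).map (resU H) ⊓ AschPrime.suG 3 K p := ⟨_, rfl⟩
  obtain ⟨t, ht, ht5⟩ := (hH.par h2).large
  have hNS : AschPrime.suG 3 K p ≤ (cP H).map (resU H) := by
    rcases (hH.suG_struct h2).2 N (hN ▸ inf_le_right) (fun x hx y hy => by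
      subst hN
      obtain ⟨⟨k, hk, rfl⟩, hyS⟩ := hy
      obtain ⟨m, rfl⟩ := hfull x (hH.mem_suG_iff.1 hx).1 (hH.mem_suG_iff.1 hx).2
      refine ⟨⟨m * k * m⁻¹, cP_normal hk m, by simp⟩,
        (AschPrime.suG 3 K p).mul_mem ((AschPrime.suG 3 K p).mul_mem hx hyS)
          ((AschPrime.suG 3 K p).inv_mem hx)⟩) with h | h
    · exfalso
      have hd : resU H P ∈ N := by
        subst hN
        refine ⟨⟨P, hPP, rfl⟩, hH.mem_suG_iff.2 ⟨hH.u3_res P, ?_⟩⟩
        show (res ((P : (M9 K)ˣ) : M9 K)).det = 1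
        rw [hPres, det3]; simp +decide
      obtain ⟨s, hs⟩ := (Cfsg.Geo.mem_scalars_iff _).1 (h hd)
      have hs' : res ((P : (M9 K)ˣ) : M9 K) = (s : K) • (1 : M3' K) := hs
      rw [hPres] at hs'
      have e0 := congrFun (congrFun hs' 0) 0
      have e2 := congrFun (congrFun hs' 2) 2
      simp +decide at e0 e2
      exact h20 (by linear_combination e2 - e0)
    · intro x hx
      rw [← h, hN] at hx
      exact hx.1
  have ht0 : t ≠ 0 := fun e => by simp [e] at ht
  have hi : σ t⁻¹ * t⁻¹ = 1 := by rw [map_inv₀, ← mul_inv, ht, inv_one]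
  obtain ⟨d, hd⟩ : ∃ d : ZMod 3 → K, d = fun x => if x = 0 then t else if x = 1 then t⁻¹ else 1 := ⟨_, rfl⟩
  have hdu : U3 σ (diagonal d : M3' K) := by
    rw [U3, adj3, Matrix.diagonal_map (map_zero σ), diagonal_transpose, diagonal_mul_diagonal, ← diagonal_one]
    congr 1
    funext x
    rcases zmod3_cases x with rfl | rfl | rfl <;> simp +decide [hd, ht, ← mul_inv]
  let G : GL (Fin 3) K := GeneralLinearGroup.mkOfDetNeZero (diagonal d : M3' K) hdu.det_ne
  obtain ⟨k, hk, ek⟩ := hNS (show G ∈ AschPrime.suG 3 K p from hH.mem_suG_iff.2 ⟨hdu, by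
    show (diagonal d : M3' K).det = 1
    rw [det3]; simp +decide [hd, ht0]⟩)
  have ekr : res ((k : (M9 K)ˣ) : M9 K) = diagonal d := congrArg Units.val ek
  obtain ⟨M, hM⟩ : ∃ M, M = ((k : (M9 K)ˣ) : M9 K) := ⟨_, rfl⟩
  have hkQ : M * (1 + pm flA) = 1 + pm flA := hM ▸ hk
  have hMc : Commute M (pm flA) := hM ▸ k.2.2
  have Q : ∀ x y a b : ZMod 3, M (x, y) (a, b) + M (x, y) (a, -b) =
      (if x = a ∧ y = b then 1 else 0) + (if x = a ∧ y = -b then 1 else 0) := fun x y a b => by
    have := congrFun (congrFun hkQ (x, y)) (a, b)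
    simpa [mul_add, Matrix.add_apply, mul_pm_apply, flA_apply, pm_apply, Matrix.one_apply] using this
  have R : ∀ x a, M (x, 1) (a, 1) - M (x, 1) (a, 2) = if x = a then d x else 0 := fun x a => by
    have := congrFun (congrFun ekr x) a
    simpa [res, diagonal_apply, ← hM] using this
  have m0 : ∀ x y a, M (x, y) (a, 0) = if x = a ∧ y = 0 then 1 else 0 := fun x y a => by
    refine mul_left_cancel₀ h20 ?_
    have := Q x y a 0
    rw [neg_zero] at this
    linear_combination this
  have m01 : ∀ x a, M (x, 0) (a, 1) = 0 := fun x a => by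
    refine mul_left_cancel₀ h20 ?_
    have := Q x 0 a 1
    rw [cS_symm hMc x 0 a (-1)] at this
    simp +decide [show (-2 : ZMod 3) = 1 by decide, show (-1 : ZMod 3) = 2 by decide] at this
    linear_combination this
  have m1 : ∀ x a, 2 * M (x, 1) (a, 1) = (if x = a then 1 + d x else 0) ∧
      2 * M (x, 1) (a, 2) = (if x = a then 1 - d x else 0) := fun x a => by
    have h1 := Q x 1 a 1
    have h2 := R x a
    simp +decide [show (-2 : ZMod 3) = 1 by decide, show (-1 : ZMod 3) = 2 by decide] at h1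
    by_cases e : x = a <;> simp [e] at h1 h2 ⊢ <;> constructor <;> grind
  have off : ∀ x y a b, x ≠ a → M (x, y) (a, b) = 0 := by
    intro x y a b hxa
    have z : M (x, 1) (a, 1) = 0 ∧ M (x, 1) (a, 2) = 0 := by
      obtain ⟨u, v⟩ := m1 x a
      simp only [if_neg hxa] at u v
      exact ⟨(mul_eq_zero.1 u).resolve_left h20, (mul_eq_zero.1 v).resolve_left h20⟩
    rcases zmod3_cases b with rfl | rfl | rfl
    · rw [m0]; simp [hxa]
    all_goals rcases zmod3_cases y with rfl | rfl | rfl
    any_goals exact m01 x a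
    · exact z.1
    · rw [cS_symm hMc]; simpa +decide [show (-2 : ZMod 3) = 1 by decide, show (-1 : ZMod 3) = 2 by decide] using z.2
    · rw [cS_symm hMc]; simpa +decide [show (-2 : ZMod 3) = 1 by decide, show (-1 : ZMod 3) = 2 by decide] using m01 x a
    · exact z.2
    · rw [cS_symm hMc]; simpa +decide [show (-2 : ZMod 3) = 1 by decide, show (-1 : ZMod 3) = 2 by decide] using z.1
  refine ⟨k.1, ⟨k.2.1, ?_⟩, 0, ?_⟩
  · rw [← hM, show M = bd (rowM M) from ?_]
    · exact bd_x0 _
    ext ⟨x, y⟩ ⟨a, b⟩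
    rw [bd_apply]
    by_cases e : x = a
    · simp [e, rowM]
    · simp [e, off x y a b e]
  · intro hn
    rw [← hM] at hn
    obtain ⟨l, i, j, e⟩ := hn 0 1
    obtain ⟨n1, n2⟩ : 2 * M (0, 1) (0, 1) = 1 + t ∧ 2 * M (0, 1) (0, 2) = 1 - t := by
      obtain ⟨u, v⟩ := m1 0 0
      exact ⟨by simpa [hd] using u, by simpa [hd] using v⟩
    have nz : M ((0 : ZMod 3), (1 : ZMod 3)) (0, 1) ≠ 0 ∧ M ((0 : ZMod 3), (1 : ZMod 3)) (0, 2) ≠ 0 := by
      constructor <;> intro z
      · rw [z, mul_zero] at n1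
        exact ht5 2 two_pos (by norm_num) (by linear_combination (1 - t) * n1)
      · rw [z, mul_zero] at n2
        exact ht5 1 one_pos (by norm_num) (by linear_combination n2)
    have en : ∀ y z, rowM M 0 y z * wp ω z = wp ω (l + j * (y - i)) * rowM M 0 (y - i) z := fun y z => by
      have := congrFun (congrFun e y) z
      rw [mul_r2_apply, r2_mul_apply] at this
      simpa using this
    have e00 := en 0 0
    simp only [rowM, of_apply, m0, and_true, true_and, zero_sub, neg_eq_zero, wp_zero, mul_one,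
      if_true] at e00
    by_cases hi : i = 0
    · have a1 := en 1 1
      have a2 := en 1 2
      simp only [rowM, of_apply, hi, sub_zero, mul_one] at a1 a2
      have b1 : wp ω 1 = wp ω (l + j) := mul_left_cancel₀ nz.1 (by linear_combination a1)
      have b2 : wp ω 2 = wp ω (l + j) := mul_left_cancel₀ nz.2 (by linear_combination a2)
      exact absurd (wp_injective hω (b1.trans b2.symm)) (by decide)
    · rw [if_neg hi, mul_zero] at e00
      exact one_ne_zero e00

end Amb

end CfsgLib.Classical.QutritU
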