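import Cfsg.Agent.Lib.Classical.QutritU.Setting
import Cfsg.Agent.Lib.Classical.QutritU.Three.Heis

/-!
# The Heisenberg group in three dimensions, as matrices
-/

set_option autoImplicit false
set_option linter.unusedSectionVars false
set_option linter.unusedSimpArgs false

namespace CfsgLib.Classical.QutritU

open Matrix CfsgLib.Classical.QutritMax

variable {K : Type*} [Field K] {ω : K}

/-- Matrices on a block. -/
abbrev M3' (K : Type*) : Type _ := Matrix (ZMod 3) (ZMod 3) K

/-- A member of the Heisenberg group of a block. -/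
def r2 (ω : K) (k i j : ZMod 3) : M3' K := of fun x y => if x = y + i then wp ω (k + j * y) else 0

/-- Matrices normalising the Heisenberg group of a block, up to scalars. -/
def Nor3 (ω : K) (B : M3' K) : Prop := ∀ i j, ∃ k i' j', B * r2 ω 0 i j = r2 ω k i' j' * B

theorem r2_apply (k i j x y : ZMod 3) : r2 ω k i j x y = if x = y + i then wp ω (k + j * y) else 0 := rfl

theorem r2_mul_apply (k i j : ZMod 3) (A : M3' K) (x y : ZMod 3) :
    (r2 ω k i j * A) x y = wp ω (k + j * (x - i)) * A (x - i) y := by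
  rw [Matrix.mul_apply, Finset.sum_eq_single (x - i)]
  · rw [r2_apply, if_pos (sub_add_cancel x i).symm]
  · intro z _ hz
    rw [r2_apply, if_neg fun e => hz (by rw [e, add_sub_cancel_right]), zero_mul]
  · simp

theorem mul_r2_apply (k i j : ZMod 3) (A : M3' K) (x y : ZMod 3) :
    (A * r2 ω k i j) x y = A x (y + i) * wp ω (k + j * y) := by
  rw [Matrix.mul_apply, Finset.sum_eq_single (y + i)]
  · rw [r2_apply, if_pos rfl]
  · intro z _ hz
    rw [r2_apply, if_neg hz, mul_zero]
  · simp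

theorem r2_one : r2 ω 0 0 0 = (1 : M3' K) := by
  ext x y
  simp [r2_apply, Matrix.one_apply, wp_zero]

theorem r2_scalar (k : ZMod 3) : r2 ω k 0 0 = wp ω k • (1 : M3' K) := by
  ext x y
  simp [r2_apply, Matrix.one_apply]

theorem r2_diag (j : ZMod 3) : r2 ω 0 0 j = diagonal fun x => wp ω (j * x) := by
  ext x y
  rw [r2_apply, diagonal_apply]
  by_cases e : x = y <;> simp [e]

variable (h : Root ω)
include h

theorem r2_mul (k i j k' i' j' : ZMod 3) :
    r2 ω k i j * r2 ω k' i' j' = r2 ω (k + k' + j * i') (i + i') (j + j') := by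
  ext x y
  rw [mul_r2_apply, r2_apply, r2_apply]
  by_cases e : x = y + i' + i
  · rw [if_pos e, if_pos (by rw [e]; ring), ← wp_add h]
    congr 1
    ring
  · rw [if_neg e, if_neg (fun e' => e (by rw [e']; ring)), zero_mul]

theorem r2_eq_smul (k i j : ZMod 3) : r2 ω k i j = wp ω k • r2 ω 0 i j := by
  ext x y
  rw [Matrix.smul_apply, r2_apply, r2_apply, smul_eq_mul]
  split_ifs with e
  · rw [← wp_add h]; congr 1; ring
  · rw [mul_zero]

theorem r2_comm (k i j k' i' j' : ZMod 3) :
    r2 ω k i j * r2 ω k' i' j' = wp ω (j * i' - j' * i) • (r2 ω k' i' j' * r2 ω k i j) := by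
  rw [r2_mul h, r2_mul h, r2_eq_smul h (k + k' + j * i'), r2_eq_smul h (k' + k + j' * i), smul_smul, ← wp_add h,
    add_comm i i', add_comm j j']
  congr 2
  ring

theorem r2_inv_mul (k i j : ZMod 3) : r2 ω (j * i - k) (-i) (-j) * r2 ω k i j = 1 := by
  rw [r2_mul h, ← r2_one (ω := ω)]
  congr 1 <;> ring

theorem r2_mul_inv (k i j : ZMod 3) : r2 ω k i j * r2 ω (j * i - k) (-i) (-j) = 1 :=
  mul_eq_one_comm.1 (r2_inv_mul h k i j)

theorem trace_r2 (k i j : ZMod 3) : (r2 ω k i j).trace = if i = 0 ∧ j = 0 then 3 * wp ω k else 0 := by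
  rw [Matrix.trace, sum3]
  simp only [diag_apply, r2_apply]
  by_cases hi : i = 0
  · subst hi
    simp only [add_zero, if_true, mul_zero, mul_one, true_and]
    rcases zmod3_cases j with rfl | rfl | rfl
    · simp; ring
    · rw [if_neg (by decide), wp_add h, wp_add h, one_mul, wp_one, wp_two]
      linear_combination wp ω k * h.eq
    · rw [if_neg (by decide), wp_add h, wp_add h, show (2 : ZMod 3) * 2 = 1 by decide, wp_one, wp_two]
      linear_combination wp ω k * h.eq
  · rw [if_neg (show ¬(i = 0 ∧ j = 0) from fun e => hi e.1)]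
    simp [hi, Ne.symm hi]

theorem r2_injective {k i j k' i' j' : ZMod 3} (e : r2 ω k i j = (r2 ω k' i' j' : M3' K)) :
    k = k' ∧ i = i' ∧ j = j' := by
  have e0 := congrFun (congrFun e i) 0
  simp only [r2_apply, zero_add, mul_zero, add_zero, if_true] at e0
  by_cases hi : i = i'
  · subst hi
    rw [if_pos rfl] at e0
    have hk : k = k' := wp_injective h e0
    refine ⟨hk, rfl, ?_⟩
    have e1 := congrFun (congrFun e (1 + i)) 1
    simp only [r2_apply, if_true, mul_one] at e1
    exact add_left_cancel (hk ▸ wp_injective h e1)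
  · rw [if_neg hi] at e0
    exact absurd e0 (wp_ne_zero h _)

/-- Commuting matrices up to scalars come from equal classes. -/
theorem r2_smul_eq {c : K} {i j i' j' : ZMod 3} (e : r2 ω 0 i j = c • (r2 ω 0 i' j' : M3' K)) :
    i = i' ∧ j = j' ∧ c = 1 := by
  have e0 := congrFun (congrFun e i) 0
  simp only [Matrix.smul_apply, r2_apply, zero_add, mul_zero, wp_zero, if_true, smul_eq_mul] at e0
  by_cases hi : i = i'
  · subst hi
    rw [if_pos rfl, mul_one] at e0
    rw [← e0, one_smul] at e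
    exact ⟨rfl, (r2_injective h e).2.2, e0.symm⟩
  · rw [if_neg hi, mul_zero] at e0
    exact absurd e0 one_ne_zero

/-- The characters separate functions. -/
theorem char_sep {f : ZMod 3 → K} (hf : ∀ j, ∑ x, wp ω (j * x) * f x = 0) : ∀ x, f x = 0 := by
  have e0 := hf 0
  have e1 := hf 1
  have e2 := hf 2
  simp only [sum3, zero_mul, mul_zero, one_mul, mul_one, wp_zero, wp_one, wp_two,
    show (2 : ZMod 3) * 2 = 1 by decide] at e0 e1 e2
  intro x
  rcases zmod3_cases x with rfl | rfl | rfl <;> refine (mul_eq_zero.1 ?_).resolve_left h.three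
  · linear_combination e0 + e1 + e2 - (f 1 + f 2) * h.eq
  · linear_combination e0 + ω * ω * e1 + ω * e2 - (f 0 + f 2) * h.eq - 2 * f 1 * h.pow_three
      - ω * f 2 * h.pow_three
  · linear_combination e0 + ω * e1 + ω * ω * e2 - (f 0 + f 1) * h.eq - 2 * f 2 * h.pow_three
      - ω * f 1 * h.pow_three

/-- The Heisenberg group spans all matrices. -/
theorem eq_zero_of_trace {A : M3' K} (hA : ∀ i j, (r2 ω 0 i j * A).trace = 0) : A = 0 := by
  ext x y
  have key : ∀ i j : ZMod 3, ∑ z, wp ω (j * (z - i)) * A (z - i) z = 0 := fun i j => by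
    have := hA i j
    simpa [Matrix.trace, r2_mul_apply] using this
  have h2 := char_sep h (f := fun z => A z (z + (y - x))) (fun j => by
    have := key (y - x) j
    rw [← Equiv.sum_comp (Equiv.addRight (y - x))] at this
    simpa using this) x
  simpa using h2

/-- A matrix commuting with the Heisenberg group up to scalars is a multiple of a member. -/
theorem eq_smul_r2 {B : M3' K} (hB : ∀ i j, ∃ c : K, B * r2 ω 0 i j = c • (r2 ω 0 i j * B)) :
    ∃ (c : K) (i j : ZMod 3), B = c • r2 ω 0 i j := by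
  by_cases hz : B = 0
  · exact ⟨0, 0, 0, by rw [hz, zero_smul]⟩
  obtain ⟨a, b, hab⟩ : ∃ a b, B a b ≠ 0 := by
    by_contra hall
    push Not at hall
    exact hz (Matrix.ext fun i j => by simpa using hall i j)
  obtain ⟨c, hc⟩ := hB 0 1
  obtain ⟨d, hd⟩ := hB 1 0
  have ec : ∀ x y, B x y * wp ω y = c * (wp ω x * B x y) := fun x y => by
    have := congrFun (congrFun hc x) y
    simpa [mul_r2_apply, r2_mul_apply] using this
  have ed : ∀ x y, B (x + 1) (y + 1) = d * B x y := fun x y => by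
    have := congrFun (congrFun hd (x + 1)) y
    simpa [mul_r2_apply, r2_mul_apply, wp_zero] using this
  have supp : ∀ x y, B x y ≠ 0 → y - x = b - a := by
    intro x y hxy
    have h1 : wp ω y = c * wp ω x := mul_left_cancel₀ hxy (by linear_combination ec x y)
    have h2 : wp ω b = c * wp ω a := mul_left_cancel₀ hab (by linear_combination ec a b)
    have : wp ω (y + a) = wp ω (b + x) := by
      rw [wp_add h, wp_add h, h1, h2]; ring
    linear_combination wp_injective h this
  obtain ⟨i, rfl⟩ : ∃ i, b = a - i := ⟨a - b, by ring⟩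
  obtain ⟨f, hf⟩ : ∃ f : ZMod 3 → K, f = fun y => B (y + i) y := ⟨_, rfl⟩
  have hB' : ∀ x y, B x y = if x = y + i then f y else 0 := fun x y => by
    split_ifs with e
    · subst e; rw [hf]
    · by_contra hne
      exact e (by linear_combination (-1 : ZMod 3) * supp x y hne)
  have hstep : ∀ y, f (y + 1) = d * f y := fun y => by
    simp only [hf, add_right_comm y 1 i]; exact ed (y + i) y
  have hd3 : d ^ 3 = 1 := by
    have e3 : f (a - i) = d ^ 3 * f (a - i) := by
      have e' : a - i = a - i + 1 + 1 + 1 := by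
        have h3 : (3 : ZMod 3) = 0 := by decide
        linear_combination -h3
      conv_lhs => rw [e', hstep, hstep, hstep]
      ring
    refine mul_right_cancel₀ (b := f (a - i)) ?_ (by rw [one_mul]; exact e3.symm)
    rw [hf]; simpa using hab
  obtain ⟨j, hj⟩ : ∃ j : ZMod 3, d = wp ω j := by
    rcases cube_cases' h hd3 with e | e | e
    exacts [⟨0, by rw [e, wp_zero]⟩, ⟨1, by rw [e, wp_one]⟩, ⟨2, by rw [e, wp_two]⟩]
  refine ⟨f 0, i, j, ?_⟩
  have f1 : f 1 = d * f 0 := by simpa using hstep 0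
  have f2 : f 2 = d * d * f 0 := by
    rw [show (2 : ZMod 3) = 1 + 1 by decide, hstep, f1]; ring
  ext x y
  rw [Matrix.smul_apply, r2_apply, hB' x y, smul_eq_mul]
  split_ifs
  · rcases zmod3_cases y with rfl | rfl | rfl
    · simp [wp_zero]
    · rw [f1, hj, zero_add, mul_one]; ring
    · rw [f2, hj, ← wp_add h, zero_add, show j * 2 = j + j by ring]; ring
  · rw [mul_zero]
where
  cube_cases' {K : Type _} [Field K] {ω : K} (h : Root ω) {x : K} (hx : x ^ 3 = 1) :
      x = 1 ∨ x = ω ∨ x = ω * ω := by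
    have : (x - 1) * ((x - ω) * (x - ω * ω)) = 0 := by
      linear_combination hx + (x - x ^ 2) * h.eq + (x - 1) * h.pow_three
    rcases mul_eq_zero.1 this with e | e
    · exact .inl (sub_eq_zero.1 e)
    rcases mul_eq_zero.1 e with e | e
    exacts [.inr (.inl (sub_eq_zero.1 e)), .inr (.inr (sub_eq_zero.1 e))]

theorem nor3_r2 (i j : ZMod 3) : Nor3 ω (r2 ω 0 i j) := fun i' j' => by
  refine ⟨j * i' - j' * i, i', j', ?_⟩
  rw [r2_comm h, r2_eq_smul h (j * i' - j' * i), Matrix.smul_mul]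

omit h in
theorem Nor3.smul {B : M3' K} (hB : Nor3 ω B) (c : K) : Nor3 ω (c • B) := fun i j => by
  obtain ⟨k, i', j', e⟩ := hB i j
  exact ⟨k, i', j', by rw [Matrix.smul_mul, e, Matrix.mul_smul]⟩

theorem Nor3.mul {A B : M3' K} (hA : Nor3 ω A) (hB : Nor3 ω B) : Nor3 ω (A * B) := fun i j => by
  obtain ⟨k, i', j', e⟩ := hB i j
  obtain ⟨l, i'', j'', e'⟩ := hA i' j'
  refine ⟨k + l, i'', j'', ?_⟩
  rw [mul_assoc, e, r2_eq_smul h k, Matrix.smul_mul, Matrix.mul_smul, ← mul_assoc A, e', r2_eq_smul h l,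
    r2_eq_smul h (k + l), Matrix.smul_mul, Matrix.smul_mul, Matrix.smul_mul, smul_smul, wp_add h, mul_assoc]

theorem nor3_of_gen {B : M3' K} (h1 : ∃ k i j, B * r2 ω 0 1 0 = r2 ω k i j * B)
    (h2 : ∃ k i j, B * r2 ω 0 0 1 = r2 ω k i j * B) : Nor3 ω B := by
  have hmul : ∀ {X Y : M3' K}, (∃ k i j, B * X = r2 ω k i j * B) → (∃ k i j, B * Y = r2 ω k i j * B) →
      ∃ k i j, B * (X * Y) = r2 ω k i j * B := by
    rintro X Y ⟨k, i, j, e⟩ ⟨k', i', j', e'⟩
    exact ⟨_, _, _, by rw [← mul_assoc, e, mul_assoc, e', ← mul_assoc, r2_mul h]⟩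
  have hone : ∃ k i j, B * r2 ω 0 0 0 = r2 ω k i j * B := ⟨0, 0, 0, by rw [r2_one, mul_one, one_mul]⟩
  intro i j
  have e : r2 ω 0 i j = (r2 ω 0 i 0 : M3' K) * r2 ω 0 0 j := by rw [r2_mul h]; simp
  rw [e]
  refine hmul ?_ ?_
  · rcases zmod3_cases i with rfl | rfl | rfl
    · exact hone
    · exact h1
    · have := hmul h1 h1
      rw [r2_mul h] at this
      simpa [show (1 : ZMod 3) + 1 = 2 by decide] using this
  · rcases zmod3_cases j with rfl | rfl | rfl
    · exact hone
    · exact h2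
    · have := hmul h2 h2
      rw [r2_mul h] at this
      simpa [show (1 : ZMod 3) + 1 = 2 by decide] using this

omit h in
open CfsgLib.Classical.GeoThree.C6 in
theorem dG_r2 (W : Omega K) : (Units.val W.dG : M3' K) = r2 W.ω 0 0 1 := by
  refine Matrix.ext fun (i : ZMod 3) (j : ZMod 3) => ?_
  rw [r2_apply]
  rcases zmod3_cases i with rfl | rfl | rfl <;> rcases zmod3_cases j with rfl | rfl | rfl <;>
    simp [Omega.dG, wp_zero, wp_one, wp_two, pow_two] <;> rfl

omit h in
open CfsgLib.Classical.GeoThree.C6 in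
theorem pG_r2 (W : Omega K) : (Units.val W.pG : M3' K) = r2 W.ω 0 1 0 := by
  refine Matrix.ext fun (i : ZMod 3) (j : ZMod 3) => ?_
  rw [r2_apply]
  rcases zmod3_cases i with rfl | rfl | rfl <;> rcases zmod3_cases j with rfl | rfl | rfl <;>
    simp [Omega.pG, wp_zero] <;> rfl

omit h in
open CfsgLib.Classical.GeoThree.C6 in
theorem nor3_of_normalizes (W : Omega K) {g : GL (Fin 3) K} (hg : ∀ x ∈ W.heis, g * x * g⁻¹ ∈ W.heis) :
    Nor3 W.ω (Units.val g : M3' K) := by
  have hW : Root W.ω := ⟨W.root, W.three⟩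
  have key : ∀ x ∈ W.heis, ∃ k i j, (Units.val x : M3' K) = r2 W.ω k i j := by
    intro x hx
    induction hx using Subgroup.closure_induction_left with
    | one => exact ⟨0, 0, 0, r2_one.symm⟩
    | mul_left y hy z _ ih =>
      obtain ⟨k, i, j, e⟩ := ih
      rw [Units.val_mul]
      rcases hy with rfl | rfl
      · refine ⟨_, _, _, (?_ : _ = r2 W.ω 0 0 1 * r2 W.ω k i j).trans (r2_mul hW ..)⟩
        rw [← e, ← dG_r2]; rfl
      · refine ⟨_, _, _, (?_ : _ = r2 W.ω 0 1 0 * r2 W.ω k i j).trans (r2_mul hW ..)⟩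
        rw [← e, ← pG_r2]; rfl
    | inv_mul_cancel y hy z _ ih =>
      obtain ⟨k, i, j, e⟩ := ih
      rw [Units.val_mul]
      rcases hy with rfl | rfl
      · have h1 : r2 W.ω (1 * 0 - 0) (-0) (-1) * (Units.val W.dG : M3' K) = 1 := by
          rw [dG_r2]; exact r2_inv_mul hW 0 0 1
        have : (Units.val (W.dG⁻¹ : GL (Fin 3) K) : M3' K) = r2 W.ω (1 * 0 - 0) (-0) (-1) :=
          Units.inv_eq_of_mul_eq_one_left (u := W.dG) h1
        refine ⟨_, _, _, (?_ : _ = r2 W.ω (1 * 0 - 0) (-0) (-1) * r2 W.ω k i j).trans (r2_mul hW ..)⟩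
        rw [← e, ← this]; rfl
      · have h1 : r2 W.ω (0 * 1 - 0) (-1) (-0) * (Units.val W.pG : M3' K) = 1 := by
          rw [pG_r2]; exact r2_inv_mul hW 0 1 0
        have : (Units.val (W.pG⁻¹ : GL (Fin 3) K) : M3' K) = r2 W.ω (0 * 1 - 0) (-1) (-0) :=
          Units.inv_eq_of_mul_eq_one_left (u := W.pG) h1
        refine ⟨_, _, _, (?_ : _ = r2 W.ω (0 * 1 - 0) (-1) (-0) * r2 W.ω k i j).trans (r2_mul hW ..)⟩
        rw [← e, ← this]; rfl
  refine nor3_of_gen hW ?_ ?_
  · obtain ⟨k, i, j, e⟩ := key _ (hg _ W.p_mem)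
    refine ⟨k, i, j, ?_⟩
    rw [← pG_r2, ← e]
    change (Units.val (g * W.pG) : M3' K) = Units.val (g * W.pG * g⁻¹ * g)
    rw [inv_mul_cancel_right]
  · obtain ⟨k, i, j, e⟩ := key _ (hg _ W.d_mem)
    refine ⟨k, i, j, ?_⟩
    rw [← dG_r2, ← e]
    change (Units.val (g * W.dG) : M3' K) = Units.val (g * W.dG * g⁻¹ * g)
    rw [inv_mul_cancel_right]

end CfsgLib.Classical.QutritU
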