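import Cfsg.Agent.Lib.Classical.QutritU.Frame
import Cfsg.Agent.Lib.Classical.QutritMax.Data

/-!
# Pulling back to the standard form

A group of symplectic type in the similarities of the standard Hermitian form is the standard group in
unitary coordinates, so that the dichotomy for groups over the normaliser gives maximality.
-/

set_option autoImplicit false
set_option linter.unusedSectionVars false
set_option linter.unusedSimpArgs false

namespace CfsgLib.Classical.QutritU

open Matrix CfsgLib.Classical.QutritMax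

variable {F : Type*} [Field F] {σ : F →+* F} {ω : F}

theorem quad_of_frob [Fintype F] {p : ℕ} (hp : p.Prime) (hF : Fintype.card F = p ^ 2)
    (hσ : ∀ x, σ x = x ^ p) : Quad σ ∧ CharP F p := by
  classical
  have hc : CharP F p := by
    obtain ⟨r, hr⟩ := CharP.exists F
    obtain ⟨n, hrp, hn⟩ := FiniteField.card F r
    rw [hF] at hn
    have : r ∣ p ^ 2 := hn ▸ dvd_pow_self r n.ne_zero
    rw [(Nat.prime_dvd_prime_iff_eq hrp hp).1 (hrp.dvd_of_dvd_pow this)] at hr
    exact hr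
  haveI := hc
  haveI : Fact p.Prime := ⟨hp⟩
  refine ⟨⟨fun x => by rw [hσ, hσ, ← pow_mul, ← pow_two, ← hF, FiniteField.pow_card], fun x hx => ?_⟩, hc⟩
  let φ : ZMod p →+* F := ZMod.castHom dvd_rfl F
  by_contra hcon
  push Not at hcon
  let S : Finset F := (Finset.univ : Finset (ZMod p)).image φ
  have hS : S.card = p := by
    rw [Finset.card_image_of_injective _ φ.injective, Finset.card_univ, ZMod.card]
  have hne : (Polynomial.X ^ p - Polynomial.X : Polynomial F) ≠ 0 := FiniteField.X_pow_card_sub_X_ne_zero F hp.one_lt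
  have hxS : x ∉ S := fun h => by
    obtain ⟨a, -, rfl⟩ := Finset.mem_image.1 h
    exact hcon a.val (by rw [← map_natCast φ, ZMod.natCast_zmod_val])
  have h := Polynomial.card_le_degree_of_subset_roots (Z := insert x S)
    (p := (Polynomial.X ^ p - Polynomial.X : Polynomial F)) (fun y hy => by
    rw [Polynomial.mem_roots hne, Polynomial.IsRoot.def, Polynomial.eval_sub, Polynomial.eval_pow,
      Polynomial.eval_X, sub_eq_zero]
    rcases Finset.mem_insert.1 hy with rfl | hy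
    · rw [← hσ]; exact hx
    · obtain ⟨a, -, rfl⟩ := Finset.mem_image.1 hy
      rw [← map_pow, ZMod.pow_card])
  rw [FiniteField.X_pow_card_sub_X_natDegree_eq F hp.one_lt, Finset.card_insert_of_notMem hxS, hS] at h
  omega

/-- A diagonal unitary matrix of determinant one outside the normaliser. -/
theorem exists_not_nor (hω : Root ω) (hconj : σ ω = ω ^ 2) :
    ∃ g : (M9 F)ˣ, U9 σ (g : M9 F) ∧ (g : M9 F).det = 1 ∧ ¬ Nor ω (g : M9 F) := by
  classical
  obtain ⟨α, hα⟩ : ∃ α, α = pairFun ((0, 1) : Pt) (0, 2) ω (ω * ω) := ⟨_, rfl⟩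
  have h3 := hω.pow_three
  have hdet : (diagonal α : M9 F).det = 1 := by
    rw [det_diagonal, hα, prod_pairFun (by decide)]
    linear_combination h3
  have hu : U9 σ (diagonal α : M9 F) := by
    rw [U9, adj9, diagonal_map (map_zero σ), diagonal_transpose, diagonal_mul_diagonal, ← diagonal_one]
    congr 1
    funext v
    rw [hα, pairFun]
    split_ifs
    · rw [hconj]; linear_combination h3
    · rw [map_mul, hconj]; linear_combination (ω ^ 3 + 1) * h3
    · simp
  refine ⟨GeneralLinearGroup.mkOfDetNeZero (diagonal α : M9 F) (by rw [hdet]; exact one_ne_zero), hu, hdet,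
    fun hN => ?_⟩
  change Nor ω (diagonal α : M9 F) at hN
  obtain ⟨_, ⟨k, u, w, rfl⟩, e⟩ := hN (sh ((1, 0) : Pt)) (inR_sh (1, 0))
  have hent : ∀ i j : Pt, α i * (if i = j + (1, 0) then 1 else 0) =
      (if i = j + u then wp ω (k + dot w j) else 0) * α j := fun i j => by
    have := congrFun (congrFun e i) j
    rwa [diagonal_mul, mul_diagonal, sh_apply, Rm_apply hω] at this
  have hval : ∀ v : Pt, pairFun ((0, 1) : Pt) (0, 2) ω (ω * ω) v ≠ 0 := fun v => by
    have hω0 : ω ≠ 0 := fun e0 => by simp [e0] at h3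
    rw [pairFun]; split_ifs <;> simp [hω0]
  have hu1 : u = (1, 0) := by
    have h := hent ((1, 0) : Pt) 0
    rw [zero_add, if_pos rfl, mul_one, zero_add] at h
    by_contra hne
    rw [if_neg (fun h' => hne h'.symm), zero_mul, hα] at h
    exact hval _ h
  subst hu1
  have key : ∀ j : Pt, α (j + (1, 0)) = wp ω (k + dot w j) * α j := fun j => by
    have h := hent (j + (1, 0)) j
    rwa [if_pos rfl, if_pos rfl, mul_one] at h
  have e00 := key (0, 0)
  have e10 := key (1, 0)
  have e11 := key (1, 1)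
  have e01 := key (0, 1)
  have hsingle : ∀ j : Pt, j ≠ (0, 1) → j ≠ (0, 2) → α j = 1 := fun j a b => by simp [hα, pairFun, a, b]
  have hω' : α (0, 1) = ω := by simp [hα, pairFun]
  rw [hsingle _ (by decide) (by decide), hsingle _ (by decide) (by decide), mul_one] at e00 e10 e11
  rw [hsingle _ (by decide) (by decide), hω'] at e01
  have a1 : k + dot w ((0, 0) : Pt) = 0 := wp_injective hω (by rw [wp_zero]; exact e00.symm)
  have a2 : k + dot w ((1, 0) : Pt) = 0 := wp_injective hω (by rw [wp_zero]; exact e10.symm)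
  have a3 : k + dot w ((1, 1) : Pt) = 0 := wp_injective hω (by rw [wp_zero]; exact e11.symm)
  have a4 : k + dot w ((0, 1) : Pt) = 0 := by
    simp only [dot] at a1 a2 a3 ⊢
    linear_combination a1 - a2 + a3
  rw [a4, wp_zero, one_mul] at e01
  exact hω.ne_one e01.symm

variable {B : Matrix Pt (Fin 9) F} {B' : Matrix (Fin 9) Pt F}

/-- The Gram matrix fixed by the standard group is scalar. -/
theorem gram_scalar (hω : Root ω) (hconj : σ ω = ω ^ 2) (hinv : ∀ x, σ (σ x) = x) {G : M9 F}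
    (hG : ∀ r : M9 F, InR ω r → adj9 σ r * G * r = G) : ∃ c : F, G = c • (1 : M9 F) := by
  have hwp : ∀ k, σ (wp ω k) * wp ω k = 1 := fun k => by
    rcases zmod3_cases k with rfl | rfl | rfl
    · simp [wp_zero]
    · rw [wp_one, hconj]; linear_combination hω.pow_three
    · rw [wp_two, map_mul, hconj]; linear_combination (ω ^ 3 + 1) * hω.pow_three
  have hd : ∀ (v i j : Pt), σ (wp ω (dot v i)) * G i j * wp ω (dot v j) = G i j := fun v i j => by
    have := congrFun (congrFun (hG _ (inR_dg v)) i) j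
    rwa [adj9, dg, diagonal_map (map_zero σ), diagonal_transpose, mul_diagonal, diagonal_mul] at this
  have hoff : ∀ i j : Pt, i ≠ j → G i j = 0 := by
    intro i j hij
    obtain ⟨v, hv⟩ : ∃ v : Pt, dot v i ≠ dot v j := by
      by_contra hcon
      push Not at hcon
      have h1 := hcon (1, 0)
      have h2 := hcon (0, 1)
      simp [dot] at h1 h2
      exact hij (Prod.ext h1 h2)
    by_contra hne
    refine hv (wp_injective hω ?_)
    have h1 := hd v i j
    have h2 := hwp (dot v i)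
    have h3 : σ (wp ω (dot v i)) * wp ω (dot v j) = 1 :=
      mul_left_cancel₀ hne (by linear_combination h1)
    exact mul_left_cancel₀ (left_ne_zero_of_mul (h2.trans_ne one_ne_zero)) (h2.trans h3.symm)
  refine ⟨G 0 0, Matrix.ext fun i j => ?_⟩
  rw [Matrix.smul_apply, smul_eq_mul, Matrix.one_apply]
  by_cases hij : i = j
  · subst hij
    rw [if_pos rfl, mul_one]
    have := congrFun (congrFun (hG _ (inR_sh i)) 0) 0
    rw [mul_assoc, Matrix.mul_apply, Finset.sum_eq_single i] at this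
    · rw [Matrix.mul_apply, Finset.sum_eq_single i] at this
      · simpa [adj9, sh_apply] using this
      · intro x _ hx; simp [sh_apply, hx]
      · simp
    · intro x _ hx; simp [adj9, sh_apply, hx]
    · simp
  · rw [if_neg hij, mul_zero]; exact hoff i j hij

theorem adjR_mul {l m n : Type} [Fintype m] (M : Matrix l m F) (N : Matrix m n F) :
    ((M * N).map σ)ᵀ = (N.map σ)ᵀ * (M.map σ)ᵀ := by rw [Matrix.map_mul, Matrix.transpose_mul]

/-- Unitary coordinates. -/
theorem exists_unitary_coords [Fintype F] {p : ℕ} (hp : p.Prime) (hF : Fintype.card F = p ^ 2) (h3 : p % 3 = 2)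
    (hσ : ∀ x, σ x = x ^ p) (hc : IsConjugation σ) {R : Subgroup (GL (Fin 9) F)}
    (hst : Cfsg.Geo.IsSymplecticTypeGroup 3 R) (habs : Cfsg.Geo.ActsAbsolutelyIrreducibly (Cfsg.Geo.matrixSet R))
    (hsim : R ≤ Cfsg.Geo.similarityGroup (Cfsg.hermForm 9 F p)) (hz : Nat.card (Subgroup.center R) = 3) :
    ∃ ω : F, Root ω ∧ σ ω = ω ^ 2 ∧ ∃ (B : Matrix Pt (Fin 9) F) (B' : Matrix (Fin 9) Pt F), B * B' = 1 ∧
      B' * B = 1 ∧ B = (B'.map σ)ᵀ ∧
      ∀ g : GL (Fin 9) F, g ∈ Cfsg.Geo.subgroupNormalizer R ↔ Nor ω (B * (g : Matrix (Fin 9) (Fin 9) F) * B') := by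
  classical
  obtain ⟨ω, hω, B, B', h1, h2, hfrom, hiff⟩ := exists_standard_of hst habs hz (by
    obtain ⟨k, hk⟩ : ∃ k, p = 3 * k + 2 := ⟨p / 3, by omega⟩
    rw [Nat.card_eq_fintype_card, hF, hk]
    exact ⟨3 * k * k + 4 * k + 1, by rw [Nat.sub_eq_iff_eq_add (Nat.one_le_pow _ _ (by omega))]; ring⟩)
  have hw3 := hω.pow_three
  have hconj : σ ω = ω ^ 2 := by
    rw [hσ, ← Nat.div_add_mod p 3, h3, pow_add, pow_mul, hw3, one_pow, one_mul]
  have hone : ∀ x ∈ R, (((x : GL (Fin 9) F) : Matrix (Fin 9) (Fin 9) F).map σ)ᵀ * x = 1 := by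
    intro x hx
    obtain ⟨c, hc'⟩ := hsim hx
    have hx3 : x ^ 3 = 1 := by
      have := congrArg (fun y : R => (y : GL (Fin 9) F)) (Monoid.pow_exponent_eq_one (⟨x, hx⟩ : R))
      rw [hst.exponent_eq] at this
      simpa using this
    set v : Fin 9 → F := Pi.single 0 1
    have hv : Cfsg.hermForm 9 F p v v = 1 := by
      simp [Cfsg.hermForm, v, Pi.single_apply, zero_pow hp.ne_zero]
    have hsymm : ∀ w : Fin 9 → F, σ (Cfsg.hermForm 9 F p w w) = Cfsg.hermForm 9 F p w w := fun w => by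
      simp only [Cfsg.hermForm, ← hσ, map_sum, map_mul, hc.invol]
      exact Finset.sum_congr rfl fun i _ => mul_comm _ _
    have hcfix : σ (c : F) = c := by
      have := hsymm ((x : Matrix (Fin 9) (Fin 9) F) *ᵥ v)
      rwa [hc', hv, mul_one] at this
    have hc3 : (c : F) ^ 3 = 1 := by
      have e := congrArg (fun y : GL (Fin 9) F =>
        Cfsg.hermForm 9 F p ((y : Matrix (Fin 9) (Fin 9) F) *ᵥ v) ((y : Matrix (Fin 9) (Fin 9) F) *ᵥ v)) hx3
      simp only [pow_succ, pow_zero, one_mul, Units.val_mul, Units.val_one, one_mulVec, hv, ← mulVec_mulVec, hc',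
        mul_one] at e
      linear_combination e
    have hcp : (c : F) ^ 2 = c := by
      have h := hcfix
      rw [hσ, ← Nat.div_add_mod p 3, h3, pow_add, pow_mul, hc3, one_pow, one_mul] at h
      exact h
    have hc1 : (c : F) = 1 := mul_left_cancel₀ c.ne_zero (by rw [mul_one, ← pow_two]; exact hcp)
    refine (mem_GU9_iff (q := p) hσ x).1 fun u v => ?_
    change Cfsg.hermForm 9 F p ((x : Matrix (Fin 9) (Fin 9) F) *ᵥ u) ((x : Matrix (Fin 9) (Fin 9) F) *ᵥ v) = _
    rw [hc', hc1, one_mul]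
  set G : M9 F := (B'.map σ)ᵀ * B' with hG
  have hBs : (B.map σ)ᵀ * (B'.map σ)ᵀ = 1 := by
    rw [← adjR_mul, h2]; simp
  have hB's : (B'.map σ)ᵀ * (B.map σ)ᵀ = 1 := by
    rw [← adjR_mul, h1]; simp
  obtain ⟨c, hcG⟩ := gram_scalar hω hconj hc.invol (G := G) (by
    intro r hr
    obtain ⟨x, hx, rfl⟩ := hfrom r hr
    rw [hG, adj9, adjR_mul, adjR_mul]
    simp only [Matrix.mul_assoc]
    rw [← Matrix.mul_assoc (B.map σ)ᵀ, hBs, Matrix.one_mul, ← Matrix.mul_assoc B' B, h2, Matrix.one_mul,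
      ← Matrix.mul_assoc (((x : GL (Fin 9) F) : Matrix (Fin 9) (Fin 9) F).map σ)ᵀ, hone x hx, Matrix.one_mul])
  have hc0 : c ≠ 0 := fun h0 => by
    have e : G * (B * (B.map σ)ᵀ) = 1 := by
      rw [hG, Matrix.mul_assoc, ← Matrix.mul_assoc B', h2, Matrix.one_mul, hB's]
    rw [hcG, h0, zero_smul, Matrix.zero_mul] at e
    have := congrFun (congrFun e 0) 0
    simp at this
  have hcf : σ c = c := by
    have : adj9 σ G = G := by
      rw [hG, adj9, adjR_mul]
      congr 1
      ext i j; simp [hc.invol]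
    have := congrFun (congrFun this 0) 0
    simpa [adj9, hcG] using this
  obtain ⟨l, hl⟩ := hc.exists_norm_eq hcf
  have hl0 : l ≠ 0 := fun h => hc0 (by rw [← hl, h, zero_mul])
  refine ⟨ω, hω, hconj, l • B, l⁻¹ • B', ?_, ?_, ?_, fun g => ?_⟩
  · rw [Matrix.smul_mul, Matrix.mul_smul, smul_smul, mul_inv_cancel₀ hl0, one_smul, h1]
  · rw [Matrix.smul_mul, Matrix.mul_smul, smul_smul, inv_mul_cancel₀ hl0, one_smul, h2]
  · have e : (B'.map σ)ᵀ = c • B := by
      calc (B'.map σ)ᵀ = (B'.map σ)ᵀ * (B' * B) := by rw [h2, Matrix.mul_one]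
        _ = c • B := by rw [← Matrix.mul_assoc, ← hG, hcG, Matrix.smul_mul, Matrix.one_mul]
    rw [show ((l⁻¹ • B').map σ)ᵀ = σ l⁻¹ • (B'.map σ)ᵀ from by ext i j; simp, e, smul_smul, map_inv₀, ← hl]
    congr 1
    field_simp
    rw [div_self (by simpa using hl0)]
  · rw [hiff, Matrix.smul_mul, Matrix.smul_mul, Matrix.mul_smul, smul_smul, mul_inv_cancel₀ hl0, one_smul]

/-- Clause 8 from the dichotomy. -/
theorem su9_symplectic_type_of [Fintype F] (q : ℕ) (hF : Fintype.card F = q ^ 2)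
    (hdich : ∀ {σ : F →+* F} {ω : F} {p : ℕ} {H : Subgroup (M9 F)ˣ}, Amb σ ω p H →
      (∀ g ∈ H, Nor ω ((g : (M9 F)ˣ) : M9 F)) ∨
      (∀ g : (M9 F)ˣ, adj9 σ (g : M9 F) * g = 1 → (g : M9 F).det = 1 → g ∈ H))
    (p : ℕ) (R : Subgroup (Matrix.GeneralLinearGroup (Fin 9) F)) (hp : p.Prime) (hq : q = p) (h3 : p % 3 = 2)
    (hst : Cfsg.Geo.IsSymplecticTypeGroup 3 R)
    (habs : Cfsg.Geo.ActsAbsolutelyIrreducibly (Cfsg.Geo.matrixSet R))
    (hsim : R ≤ Cfsg.Geo.similarityGroup (Cfsg.hermForm 9 F q)) (hz : Nat.card (Subgroup.center R) = 3) :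
    Cfsg.Geo.IsMaximalIn (Cfsg.GU 9 F q ⊓ Cfsg.Geo.specialLinear (Fin 9) F)
      (Cfsg.Geo.subgroupNormalizer R ⊓ (Cfsg.GU 9 F q ⊓ Cfsg.Geo.specialLinear (Fin 9) F)) := by
  classical
  subst hq
  obtain ⟨σ, hσ, hc⟩ := exists_frob hF
  obtain ⟨hQ, hchar⟩ := quad_of_frob hp hF hσ
  obtain ⟨ω, hω, hconj, B, B', h1, h2, hBB, hiff⟩ := exists_unitary_coords hp hF h3 hσ hc hst habs hsim hz
  have hB'star : (B.map σ)ᵀ = B' := by
    rw [hBB]; ext i j; simp [hc.invol]
  have cmul : ∀ X Y : Matrix (Fin 9) (Fin 9) F, B * (X * Y) * B' = (B * X * B') * (B * Y * B') := by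
    intro X Y
    simp only [Matrix.mul_assoc]
    rw [← Matrix.mul_assoc B' B, h2, Matrix.one_mul]
  let φ : GL (Fin 9) F →* (M9 F)ˣ := MonoidHom.mk'
    (fun g => ⟨B * (g : Matrix (Fin 9) (Fin 9) F) * B', B * ((g⁻¹ : GL (Fin 9) F) : Matrix (Fin 9) (Fin 9) F) * B',
      by rw [← cmul, Units.mul_inv, Matrix.mul_one, h1], by rw [← cmul, Units.inv_mul, Matrix.mul_one, h1]⟩)
    (fun g g' => Units.ext (by simp only [Units.val_mul]; exact cmul _ _))
  have hφ : ∀ g, ((φ g : (M9 F)ˣ) : M9 F) = B * (g : Matrix (Fin 9) (Fin 9) F) * B' := fun g => rfl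
  have hback : ∀ {X Y : Matrix (Fin 9) (Fin 9) F}, B * X * B' = B * Y * B' → X = Y := fun {X Y} e => by
    have := congrArg (fun t => B' * t * B) e
    simpa [Matrix.mul_assoc, h2, ← Matrix.mul_assoc B' B] using this
  have hinj : Function.Injective φ := fun g g' e => Units.ext (hback (congrArg Units.val e))
  have hsurj : ∀ u : (M9 F)ˣ, ∃ g, φ g = u := by
    intro u
    have cinv : ∀ X Y : M9 F, (B' * X * B) * (B' * Y * B) = B' * (X * Y) * B := by
      intro X Y
      simp only [Matrix.mul_assoc]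
      rw [← Matrix.mul_assoc B B', h1, Matrix.one_mul]
    refine ⟨⟨B' * (u : M9 F) * B, B' * ((u⁻¹ : (M9 F)ˣ) : M9 F) * B,
      by rw [cinv, Units.mul_inv, Matrix.mul_one, h2], by rw [cinv, Units.inv_mul, Matrix.mul_one, h2]⟩, Units.ext ?_⟩
    rw [hφ]
    simp only [← Matrix.mul_assoc, h1, Matrix.one_mul]
    rw [Matrix.mul_assoc, h1, Matrix.mul_one]
  have hdet : ∀ g, ((φ g : (M9 F)ˣ) : M9 F).det = (g : Matrix (Fin 9) (Fin 9) F).det := fun g => by
    rw [hφ]; exact det_conj_of_mul_eq_one h1 h2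
  set G9 := Cfsg.GU 9 F q ⊓ Cfsg.Geo.specialLinear (Fin 9) F
  have hmem : ∀ g, g ∈ G9 ↔ U9 σ ((φ g : (M9 F)ˣ) : M9 F) ∧ ((φ g : (M9 F)ˣ) : M9 F).det = 1 := fun g => by
    rw [Subgroup.mem_inf, mem_GU9_iff hσ, CfsgLib.Classical.mem_specialLinear_iff, hdet]
    refine and_congr_left fun _ => ?_
    have e : adj9 σ (φ g : M9 F) * (φ g : M9 F) =
        B * (((g : Matrix (Fin 9) (Fin 9) F).map σ)ᵀ * (g : Matrix (Fin 9) (Fin 9) F)) * B' := by
      rw [hφ, adj9, adjR_mul, adjR_mul, hB'star, ← hBB, cmul]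
      simp only [Matrix.mul_assoc]
    rw [U9, e]
    exact ⟨fun h => by rw [h, Matrix.mul_one, h1], fun h => hback (by rw [h, Matrix.mul_one, h1])⟩
  refine ⟨lt_of_le_of_ne inf_le_right fun e => ?_, fun M hNM hMG => ?_⟩
  · obtain ⟨u, hu, hud, hun⟩ := exists_not_nor hω hconj
    obtain ⟨g, rfl⟩ := hsurj u
    have hg : g ∈ Cfsg.Geo.subgroupNormalizer R ⊓ G9 := by rw [e]; exact (hmem g).2 ⟨hu, hud⟩
    exact hun ((hiff g).1 hg.1)
  have hH : Amb σ ω q (M.map φ) :=
    { root := hω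
      quad := hQ
      conj := hconj
      prime := hp
      char := hchar
      mod_three := h3
      card := by rw [Nat.card_eq_fintype_card, hF]
      unit := by
        rintro _ ⟨g, hg, rfl⟩
        exact ((hmem g).1 (hMG hg)).1
      det_eq := by
        rintro _ ⟨g, hg, rfl⟩
        exact ((hmem g).1 (hMG hg)).2
      mem := fun u hu hd hn => by
        obtain ⟨g, rfl⟩ := hsurj u
        exact ⟨g, hNM ⟨(hiff g).2 hn, (hmem g).2 ⟨hu, hd⟩⟩, rfl⟩ }
  rcases hdich hH with hN | hall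
  · left
    exact le_antisymm (fun g hg => ⟨(hiff g).2 (hN (φ g) ⟨g, hg, rfl⟩), hMG hg⟩) hNM
  · right
    refine le_antisymm hMG fun g hg => ?_
    obtain ⟨g', hg', e⟩ := hall (φ g) ((hmem g).1 hg).1 ((hmem g).1 hg).2
    exact hinj e ▸ hg'

end CfsgLib.Classical.QutritU
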