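import Cfsg.Agent.Lib.Classical.QutritU.Heis3

/-!
# Block diagonal members
-/

set_option autoImplicit false
set_option linter.unusedSectionVars false
set_option linter.unusedSimpArgs false

namespace CfsgLib.Classical.QutritU

open Matrix CfsgLib.Classical.QutritMax
open scoped Kronecker

variable {K : Type*} [Field K] {σ : K →+* K} {ω : K}

/-- The adjoint on a block. -/
def adj3 (σ : K →+* K) (B : M3' K) : M3' K := (B.map σ)ᵀ

/-- A unitary block. -/
def U3 (σ : K →+* K) (B : M3' K) : Prop := adj3 σ B * B = 1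

/-- The block at a value of the first coordinate. -/
def rowM (g : M9 K) (a : ZMod 3) : M3' K := of fun b d => g (a, b) (a, d)

theorem rowM_bd (B : ZMod 3 → M3' K) (a : ZMod 3) : rowM (bd B) a = B a := by
  ext b d; simp [rowM, bd_apply]

theorem bd_rowM (h : Root ω) {g : M9 K} (hg : g * x0 ω = x0 ω * g) : g = bd (rowM g) :=
  eq_bd_of_comm h hg

theorem bd_ext {B C : ZMod 3 → M3' K} (e : bd B = bd C) (a : ZMod 3) : B a = C a := by
  rw [← rowM_bd B a, e, rowM_bd]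

theorem bd_x0 (B : ZMod 3 → M3' K) : bd B * x0 ω = x0 ω * bd B := bd_comm_x B

theorem bd_smul (c : K) (B : ZMod 3 → M3' K) : c • bd B = bd fun a => c • B a := by
  ext i j; simp [bd_apply]

theorem adj9_bd (B : ZMod 3 → M3' K) : adj9 σ (bd B) = bd fun a => adj3 σ (B a) := by
  ext i j
  simp only [adj9, transpose_apply, map_apply, bd_apply, adj3, apply_ite σ, map_zero]
  by_cases e : i.1 = j.1
  · rw [if_pos e, if_pos e.symm, e]
  · rw [if_neg e, if_neg (Ne.symm e)]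

theorem u9_bd {B : ZMod 3 → M3' K} : U9 σ (bd B) ↔ ∀ a, U3 σ (B a) := by
  rw [U9, adj9_bd, bd_mul, ← bd_one]
  exact ⟨fun e a => bd_ext e a, fun e => congrArg bd (funext e)⟩

theorem det_bd (B : ZMod 3 → M3' K) : (bd B).det = ∏ a, (B a).det := by
  have e : bd B = (blockDiagonal B).submatrix (Equiv.prodComm _ _) (Equiv.prodComm _ _) := by
    ext i j
    simp [bd_apply, blockDiagonal_apply]
  rw [e, det_submatrix_equiv_self, det_blockDiagonal]

theorem u3_one : U3 σ (1 : M3' K) := by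
  rw [U3, show adj3 σ (1 : M3' K) = 1 from ?_, one_mul]
  ext i j; simp [adj3, Matrix.one_apply, apply_ite σ, eq_comm]

theorem U3.mul {A B : M3' K} (hA : U3 σ A) (hB : U3 σ B) : U3 σ (A * B) := by
  rw [U3, show adj3 σ (A * B) = adj3 σ B * adj3 σ A from ?_, mul_assoc, ← mul_assoc (adj3 σ A), hA, one_mul, hB]
  rw [adj3, Matrix.map_mul, Matrix.transpose_mul]; rfl

theorem u3_smul {B : M3' K} (hB : U3 σ B) {c : K} (hc : σ c * c = 1) : U3 σ (c • B) := by
  rw [U3, show adj3 σ (c • B) = σ c • adj3 σ B from ?_, smul_mul_smul_comm, hB, hc, one_smul]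
  ext i j; simp [adj3]

theorem U3.det_ne {B : M3' K} (hB : U3 σ B) : B.det ≠ 0 := fun e => by
  have := congrArg Matrix.det hB
  rw [det_mul, e, mul_zero, det_one] at this
  exact zero_ne_one this

/-- The members of the standard group preserving the first coordinate, by blocks. -/
theorem Rm_zero_eq (h : Root ω) (k i : ZMod 3) (w : Pt) :
    Rm ω k ((0, i) : Pt) w = bd fun a => r2 ω (k + w.1 * a) i w.2 := by
  ext ⟨a, b⟩ ⟨c, d⟩
  rw [Rm, Matrix.smul_apply, dg, mul_diagonal, sh_apply, bd_apply, r2_apply, smul_eq_mul]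
  simp only [Prod.mk_add_mk, add_zero, Prod.mk.injEq, dot]
  by_cases e : a = c
  · subst e
    by_cases e' : b = d + i <;> simp [e', ← wp_add h, add_assoc]
  · simp [e]

theorem x0_eq (h : Root ω) : x0 ω = bd fun a => r2 ω a 0 0 := by
  have e : x0 ω = Rm ω 0 ((0, 0) : Pt) ((1, 0) : Pt) := by simp [Rm, wp_zero, sh_zero, show ((0, 0) : Pt) = 0 from rfl]
  rw [e, Rm_zero_eq h]
  simp

theorem x0_eq_smul (h : Root ω) : x0 ω = bd fun a => wp ω a • (1 : M3' K) := by
  simp only [x0_eq h, r2_scalar]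

theorem blk_r2_eq (h : Root ω) (k i j : ZMod 3) :
    Rm ω k ((0, i) : Pt) ((0, j) : Pt) = blk (r2 ω k i j) := by
  rw [Rm_zero_eq h, blk_eq_bd]
  simp

theorem inR_blk (h : Root ω) (k i j : ZMod 3) : InR ω (blk (r2 ω k i j)) :=
  ⟨k, (0, i), (0, j), (blk_r2_eq h k i j).symm⟩

theorem sh10_bd (B : ZMod 3 → M3' K) :
    (sh ((1, 0) : Pt) : M9 K) * bd B = bd (fun a => B (a - 1)) * sh ((1, 0) : Pt) := by
  ext ⟨a, b⟩ ⟨c, d⟩
  rw [sh, pm_mul_apply, mul_pm_apply, bd_apply, bd_apply]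
  simp [Equiv.addRight_symm, ← sub_eq_add_neg]
  by_cases e : a - 1 = c
  · rw [if_pos e, if_pos (by rw [← e]; ring), e]
  · rw [if_neg e, if_neg (fun e' => e (by rw [e']; ring))]

theorem sh10_r2 (B : M3' K) : (sh ((1, 0) : Pt) : M9 K) * blk B = blk B * sh ((1, 0) : Pt) := by
  rw [blk_eq_bd, sh10_bd]

theorem dg10_comm (B : M3' K) : x0 ω * blk B = blk B * x0 ω := by
  rw [blk_eq_bd, bd_x0]

/-- Lifts of block normalisers normalise. -/
theorem nor_blk (h : Root ω) {B : M3' K} (hB : Nor3 ω B) : Nor ω (blk B) := by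
  obtain ⟨k, i, j, e1⟩ := hB 1 0
  obtain ⟨k', i', j', e2⟩ := hB 0 1
  refine nor_of_gen h ⟨_, inR_sh (1, 0), (sh10_r2 B).symm⟩ ⟨_, inR_blk h k i j, ?_⟩
    ⟨_, inR_x0, (dg10_comm B).symm⟩ ⟨_, inR_blk h k' i' j', ?_⟩
  · rw [show (sh ((0, 1) : Pt) : M9 K) = blk (r2 ω 0 1 0) by
      rw [← blk_r2_eq h]; simp [Rm, wp_zero, dg, dot], blk_mul, blk_mul, e1]
  · rw [show dg ω (dot ((0, 1) : Pt)) = blk (r2 ω 0 0 1) by
      rw [← blk_r2_eq h]; simp [Rm, wp_zero, sh_zero, show ((0, 0) : Pt) = 0 from rfl], blk_mul, blk_mul, e2]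

theorem u9_blk {B : M3' K} (hB : U3 σ B) : U9 σ (blk B) := by
  rw [blk_eq_bd]; exact u9_bd.2 fun _ => hB

/-- The Fourier matrix of a block. -/
def F3 (ω : K) : M3' K := of fun i j => (ω - ω * ω)⁻¹ * wp ω (i * j)

theorem s_sq (h : Root ω) : (ω - ω * ω) * (ω - ω * ω) = -3 := by
  linear_combination (ω * ω - 3 * ω + 3) * h.eq

theorem s_ne (h : Root ω) : ω - ω * ω ≠ 0 := sub_ne_zero.2 h.mul_self_ne.symm

theorem F3_S (h : Root ω) : F3 ω * r2 ω 0 1 0 = r2 ω 0 0 1 * F3 ω := by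
  ext x y
  rw [mul_r2_apply, r2_mul_apply]
  simp only [F3, of_apply, zero_mul, add_zero, wp_zero, mul_one, sub_zero, zero_add, one_mul]
  rw [mul_add, mul_one, wp_add h]; ring

theorem F3_D (h : Root ω) : F3 ω * r2 ω 0 0 1 = r2 ω 0 (-1) 0 * F3 ω := by
  ext x y
  rw [mul_r2_apply, r2_mul_apply]
  simp only [F3, of_apply, zero_mul, add_zero, wp_zero, mul_one, sub_neg_eq_add, zero_add, one_mul]
  rw [add_mul, one_mul, wp_add h]; ring

theorem nor3_F3 (h : Root ω) : Nor3 ω (F3 ω) :=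
  nor3_of_gen h ⟨0, 0, 1, F3_S h⟩ ⟨0, -1, 0, F3_D h⟩

theorem det_F3 (h : Root ω) : (F3 ω).det = 1 := by
  have hs := s_ne h
  rw [det3]
  simp only [F3, of_apply, zero_mul, mul_zero, one_mul, mul_one, show (2 : ZMod 3) * 2 = 1 by decide, wp_zero,
    wp_one, wp_two]
  field_simp
  grind [h.eq, h.pow_three]

theorem wp_sum_dot (h : Root ω) (d : ZMod 3) :
    wp ω 0 + wp ω d + wp ω (2 * d) = if d = 0 then 3 else 0 := by
  rcases zmod3_cases d with rfl | rfl | rfl
  · simp [wp_zero]; ring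
  · rw [if_neg (by decide), mul_one, wp_zero, wp_one, wp_two]; linear_combination h.eq
  · rw [if_neg (by decide), show (2 : ZMod 3) * 2 = 1 by decide, wp_zero, wp_one, wp_two]
    linear_combination h.eq

namespace Amb

variable {p : ℕ} {H : Subgroup (M9 K)ˣ} (hH : Amb σ ω p H)
include hH

theorem u3_r2 (k i j : ZMod 3) : U3 σ (r2 ω k i j) := by
  have := hH.u9_Rm k ((0, i) : Pt) ((0, j) : Pt)
  rw [blk_r2_eq hH.root, blk_eq_bd] at this
  exact u9_bd.1 this 0

theorem u3_F3 : U3 σ (F3 ω) := by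
  have hω := hH.root
  have hs := s_ne hω
  have hσs : σ ((ω - ω * ω)⁻¹) = -(ω - ω * ω)⁻¹ := by
    rw [map_inv₀, map_sub, hH.conj_sq, hH.conj, ← inv_neg, pow_two]; ring_nf
  ext x y
  rw [Matrix.mul_apply, Matrix.one_apply]
  simp only [adj3, transpose_apply, map_apply, F3, of_apply, map_mul, hH.conj_wp, hσs, sum3, zero_mul, mul_zero,
    neg_zero, one_mul]
  have e : ∀ c : ZMod 3, wp ω (-(c * x)) * wp ω (c * y) = wp ω (c * (y - x)) := fun c => by
    rw [← wp_add hω]; congr 1; ring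
  have e0 := e 1
  have e1 := e 2
  simp only [one_mul] at e0
  have hsum := wp_sum_dot hω (y - x)
  obtain ⟨t, ht⟩ : ∃ t, t = (ω - ω * ω)⁻¹ := ⟨_, rfl⟩
  have h3 : 3 * t * t = -1 := by
    have hu : (ω - ω * ω) * t = 1 := by rw [ht]; exact mul_inv_cancel₀ hs
    linear_combination t * t * s_sq hω - ((ω - ω * ω) * t + 1) * hu
  rw [← ht]
  rw [wp_zero] at hsum ⊢
  by_cases hxy : x = y
  · rw [if_pos hxy]
    rw [if_pos (show y - x = 0 by rw [hxy, sub_self])] at hsum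
    linear_combination (-t * t) * hsum + (-t * t) * e0 + (-t * t) * e1 - h3
  · rw [if_neg hxy]
    rw [if_neg (sub_ne_zero.2 (Ne.symm hxy))] at hsum
    linear_combination (-t * t) * hsum + (-t * t) * e0 + (-t * t) * e1

theorem in_blk {B : M3' K} (hu : U3 σ B) (hd : B.det ^ 3 = 1) (hn : Nor3 ω B) : In H (blk B) :=
  hH.in_of (u9_blk hu) (by rw [det_blk, hd]) (nor_blk hH.root hn)

theorem in_F3 : In H (blk (F3 ω)) :=
  hH.in_blk hH.u3_F3 (by rw [det_F3 hH.root, one_pow]) (nor3_F3 hH.root)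

end Amb

end CfsgLib.Classical.QutritU
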