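import Cfsg.Agent.Lib.Classical.QutritU.Data
import Cfsg.Agent.Lib.Classical.QutritMax.Blocks

/-!
# Unitary elements of the normaliser in dimension nine
-/

set_option autoImplicit false
set_option linter.unusedSectionVars false
set_option linter.unusedSimpArgs false

namespace CfsgLib.Classical.QutritU

open Matrix CfsgLib.Classical.QutritMax
open scoped Kronecker

variable {K : Type*} [Field K] {σ : K →+* K} {ω : K}

/-- A unitary matrix. -/
def U9 (σ : K →+* K) (M : M9 K) : Prop := adj9 σ M * M = 1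

theorem adj9_mul (M N : M9 K) : adj9 σ (M * N) = adj9 σ N * adj9 σ M := by
  rw [adj9, Matrix.map_mul, Matrix.transpose_mul]; rfl

theorem adj9_one : adj9 σ (1 : M9 K) = 1 := by
  ext i j; simp [adj9, Matrix.one_apply, apply_ite σ, eq_comm]

theorem adj9_smul (c : K) (M : M9 K) : adj9 σ (c • M) = σ c • adj9 σ M := by
  ext i j; simp [adj9]

theorem adj9_add (M N : M9 K) : adj9 σ (M + N) = adj9 σ M + adj9 σ N := by
  ext i j; simp [adj9]

theorem adj9_sub (M N : M9 K) : adj9 σ (M - N) = adj9 σ M - adj9 σ N := by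
  ext i j; simp [adj9]

theorem u9_one : U9 σ (1 : M9 K) := by rw [U9, adj9_one, one_mul]

theorem U9.mul {M N : M9 K} (hM : U9 σ M) (hN : U9 σ N) : U9 σ (M * N) := by
  rw [U9, adj9_mul, mul_assoc, ← mul_assoc (adj9 σ M), hM, one_mul, hN]

theorem U9.smul {M : M9 K} (hM : U9 σ M) {c : K} (hc : σ c * c = 1) : U9 σ (c • M) := by
  rw [U9, adj9_smul, smul_mul_smul_comm, hM, hc, one_smul]

theorem U9.inv {g : (M9 K)ˣ} (hg : U9 σ (g : M9 K)) : ((g⁻¹ : (M9 K)ˣ) : M9 K) = adj9 σ (g : M9 K) :=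
  Units.inv_eq_of_mul_eq_one_left hg

theorem u9_pm (π : Equiv.Perm Pt) : U9 σ (pm π : M9 K) := by
  have e : adj9 σ (pm π : M9 K) = pm π⁻¹ := by
    ext i j
    simp only [adj9, transpose_apply, map_apply, pm_apply, apply_ite σ, map_one, map_zero]
    exact if_congr (by rw [Equiv.Perm.eq_inv_iff_eq, eq_comm]) rfl rfl
  rw [U9, e, pm_mul, inv_mul_cancel, pm_one]

theorem u9_sh (u : Pt) : U9 σ (sh u : M9 K) := u9_pm _

theorem u9_neg_one_smul {M : M9 K} (hM : U9 σ M) : U9 σ ((-1 : K) • M) :=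
  hM.smul (by rw [map_neg, map_one, neg_mul_neg, one_mul])

/-- The central generator. -/
abbrev x0 (ω : K) : M9 K := dg ω (dot (1, 0))

theorem inR_x0 : InR ω (x0 ω) := inR_dg (1, 0)

theorem trace_dg (f : Pt → ZMod 3) : (dg ω f).trace = ∑ v, wp ω (f v) := trace_diagonal _

namespace Amb

variable {p : ℕ} {H : Subgroup (M9 K)ˣ} (hH : Amb σ ω p H)
include hH

theorem cube : Root ω := hH.root

theorem conj_sq : σ (ω * ω) = ω := by
  have h := hH.quad.invol ω
  rw [hH.conj, pow_two] at h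
  exact h

theorem conj_wp (k : ZMod 3) : σ (wp ω k) = wp ω (-k) := by
  rcases zmod3_cases k with rfl | rfl | rfl
  · simp [wp_zero]
  · rw [wp_one, hH.conj, show (-1 : ZMod 3) = 2 by decide, wp_two, pow_two]
  · rw [wp_two, hH.conj_sq, show (-2 : ZMod 3) = 1 by decide, wp_one]

theorem wp_norm (k : ZMod 3) : σ (wp ω k) * wp ω k = 1 := by
  rw [hH.conj_wp, mul_comm, wp_mul_neg hH.root]

theorem u9_dg (f : Pt → ZMod 3) : U9 σ (dg ω f) := by
  rw [U9, show adj9 σ (dg ω f) = dg ω (-f) from ?_, dg_mul hH.root, neg_add_cancel]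
  · exact dg_zero
  ext i j
  simp only [adj9, dg, transpose_apply, map_apply, diagonal_apply, Pi.neg_apply]
  by_cases e : i = j
  · subst e; simp [hH.conj_wp]
  · simp [e, Ne.symm e]

theorem u9_Rm (k : ZMod 3) (u v : Pt) : U9 σ (Rm ω k u v) :=
  ((u9_sh u).mul (hH.u9_dg _)).smul (hH.wp_norm k)

theorem in_of {M : M9 K} (hu : U9 σ M) (hd : M.det = 1) (hn : Nor ω M) : In H M :=
  ⟨GeneralLinearGroup.mkOfDetNeZero M (by rw [hd]; exact one_ne_zero), hH.mem _ hu hd hn, rfl⟩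

theorem u9_of {g : (M9 K)ˣ} (hg : g ∈ H) : U9 σ (g : M9 K) := hH.unit g hg

theorem u9_in {M : M9 K} (hM : In H M) : U9 σ M := by
  obtain ⟨g, hg, rfl⟩ := hM; exact hH.u9_of hg

theorem in_sh (u : Pt) : In H (sh u : M9 K) := hH.in_of (u9_sh u) (det_sh u) (nor_sh hH.root u)

theorem in_dg {f : Pt → ZMod 3} (hf : Quadr f) : In H (dg ω f) :=
  hH.in_of (hH.u9_dg f) (det_dg_quadr hH.root hf) (nor_dg hH.root hf)

theorem in_dot (v : Pt) : In H (dg ω (dot v)) :=
  hH.in_dg ⟨0, v.1, v.2, 0, 0, 0, funext fun w => by simp [dot]⟩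

theorem in_x0 : In H (x0 ω) := hH.in_dot (1, 0)

theorem in_scalar (k : ZMod 3) : In H (wp ω k • (1 : M9 K)) := by
  rw [← dg_const]
  exact hH.in_dg ⟨k, 0, 0, 0, 0, 0, funext fun w => by ring⟩

theorem in_Rm (k : ZMod 3) (u v : Pt) : In H (Rm ω k u v) := by
  have := (hH.in_scalar k).mul ((hH.in_sh u).mul (hH.in_dot v))
  rwa [Matrix.smul_mul, one_mul] at this

theorem in_R {r : M9 K} (hr : InR ω r) : In H r := by
  obtain ⟨k, u, v, rfl⟩ := hr; exact hH.in_Rm k u v

theorem in_signed {π : Equiv.Perm Pt} (hπ : ∀ a b, π (a + b) = π a + π b) :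
    In H (((Equiv.Perm.sign π : ℤ) : K) • (pm π : M9 K)) := by
  refine hH.in_of ((u9_pm π).smul ?_) (det_smul_sign π) ((nor_pm hH.root hπ).smul _)
  rcases Int.units_eq_one_or (Equiv.Perm.sign π) with e | e <;> simp [e]

theorem finite [Finite K] : Finite (M9 K)ˣ := Finite.of_injective _ Units.val_injective

variable [Finite K]

/-- The normalising members, as a subgroup. -/
def norH : Subgroup (M9 K)ˣ where
  carrier := {g | g ∈ H ∧ Nor ω (g : M9 K)}
  one_mem' := ⟨one_mem H, by simpa using nor_one (ω := ω) (F := K)⟩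
  mul_mem' := fun {g k} hg hk => ⟨mul_mem hg.1 hk.1, by simpa using Nor.mul hg.2 hk.2⟩
  inv_mem' := fun {g} hg => by
    haveI := hH.finite
    refine ⟨inv_mem hg.1, ?_⟩
    have hpow : ∀ n : ℕ, Nor ω ((g ^ n : (M9 K)ˣ) : M9 K) := by
      intro n
      induction n with
      | zero => simpa using nor_one (ω := ω) (F := K)
      | succ n ih => rw [pow_succ, Units.val_mul]; exact ih.mul hg.2
    have h1 : g ^ (orderOf g - 1) = g⁻¹ := by
      rw [eq_inv_iff_mul_eq_one, ← pow_succ, Nat.sub_add_cancel (orderOf_pos g), pow_orderOf_eq_one]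
    rw [← h1]; exact hpow _

theorem mem_norH {g : (M9 K)ˣ} : g ∈ hH.norH ↔ g ∈ H ∧ Nor ω (g : M9 K) := Iff.rfl

theorem norH_le : hH.norH ≤ H := fun _ h => h.1

theorem exists_norH {M : M9 K} (hM : In H M) (hn : Nor ω M) : ∃ g ∈ hH.norH, ((g : (M9 K)ˣ) : M9 K) = M := by
  obtain ⟨g, hg, rfl⟩ := hM; exact ⟨g, ⟨hg, hn⟩, rfl⟩

end Amb

end CfsgLib.Classical.QutritU
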